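import Cfsg.Agent.Lib.TIElem.Setting
import Cfsg.Agent.Lib.Invol.BaerSuzuki
import Cfsg.Agent.S0016
import Cfsg.Agent.Lib.Frobenius.ComplementSylow
import Mathlib.GroupTheory.SpecificGroups.Quaternion

/-!
# Groups in which subgroups of the same order are conjugate: first consequences
-/

set_option autoImplicit false
set_option linter.unusedSectionVars false
set_option linter.style.haveILetI false

namespace CfsgLib.SameOrderConj

open Subgroup
open scoped Pointwise

/-- Any two subgroups of the same order are conjugate. -/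
def SameConj (G : Type*) [Group G] : Prop :=
  ∀ H K : Subgroup G, Nat.card H = Nat.card K → ∃ g : G, K = H.map (MulAut.conj g).toMonoidHom

variable {G : Type*} [Group G] [Finite G]

theorem SameConj.map {H : Type*} [Group H] (hC : SameConj G) (φ : G →* H)
    (hφ : Function.Surjective φ) : SameConj H := by
  intro A B hAB
  have hcard : ∀ X : Subgroup H, Nat.card (X.comap φ) = Nat.card X * Nat.card φ.ker := by
    intro X
    have e := card_mul_index (X.comap φ)
    rw [index_comap_of_surjective X hφ, ← card_mul_index φ.ker, index_ker φ,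
      MonoidHom.range_eq_top.mpr hφ, card_top, ← card_mul_index X] at e
    haveI : Finite H := Finite.of_surjective φ hφ
    have hpos : 0 < X.index := Nat.pos_of_ne_zero index_ne_zero_of_finite
    nlinarith
  obtain ⟨g, hg⟩ := hC (A.comap φ) (B.comap φ) (by rw [hcard, hcard, hAB])
  refine ⟨φ g, ?_⟩
  rw [← map_comap_eq_self_of_surjective hφ B, hg, Subgroup.map_map,
    show φ.comp (MulAut.conj g).toMonoidHom = (MulAut.conj (φ g)).toMonoidHom.comp φ by
      ext x; simp,
    ← Subgroup.map_map, map_comap_eq_self_of_surjective hφ A]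

theorem SameConj.isConj_invol (hC : SameConj G) {u v : G} (hu : orderOf u = 2)
    (hv : orderOf v = 2) : IsConj u v := by
  obtain ⟨g, hg⟩ := hC (zpowers u) (zpowers v) (by rw [Nat.card_zpowers, Nat.card_zpowers, hu, hv])
  obtain ⟨x, hx, hxv⟩ := (hg ▸ mem_zpowers v :
    v ∈ (zpowers u).map (MulAut.conj g).toMonoidHom)
  refine isConj_iff.mpr ⟨g, ?_⟩
  obtain ⟨k, hk⟩ := mem_zpowers_iff.mp hx
  rcases Int.even_or_odd k with ⟨j, hj⟩ | ⟨j, hj⟩
  · exfalso
    have hx1 : x = 1 := by
      rw [← hk, hj, ← two_mul, zpow_mul, zpow_two, Invol.mul_self_eq_one hu, one_zpow]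
    rw [hx1, map_one] at hxv
    exact Invol.ne_one_of_invol hv hxv.symm
  · have hxu : x = u := by
      rw [← hk, hj, zpow_add_one, zpow_mul, zpow_two, Invol.mul_self_eq_one hu, one_zpow, one_mul]
    rw [hxu] at hxv
    exact hxv

theorem SameConj.cyclic_iff (hC : SameConj G) {H K : Subgroup G}
    (hcard : Nat.card H = Nat.card K) : IsCyclic H ↔ IsCyclic K := by
  obtain ⟨g, rfl⟩ := hC H K hcard
  exact (H.equivMapOfInjective _ (MulEquiv.injective (MulAut.conj g))).isCyclic

/-- (A) -/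
theorem SameConj.noMixedPrime (hC : SameConj G) : TIElem.NoMixedPrime G := by
  intro p hp hp2 x u hx hu hc y v hy hv hinv
  have hcop : (orderOf u).Coprime (orderOf x) := by
    rw [hu, hx]; exact (Nat.coprime_primes Nat.prime_two hp).mpr (Ne.symm hp2)
  have h1 : Nat.card (zpowers (u * x)) = 2 * p := by
    rw [Nat.card_zpowers, hc.orderOf_mul_eq_mul_orderOf_of_coprime hcop, hu, hx]
  have hnorm : zpowers v ≤ normalizer (zpowers y : Set G) := by
    rw [zpowers_le, mem_normalizer_iff_map_conj_eq, MonoidHom.map_zpowers]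
    show zpowers (v * y * v⁻¹) = _
    rw [hinv, zpowers_inv]
  set D := zpowers v ⊔ zpowers y with hD
  have h2 : Nat.card D = 2 * p := by
    have hmul : ((D : Subgroup G) : Set G) = (zpowers v : Set G) * (zpowers y : Set G) :=
      coe_mul_of_left_le_normalizer_right (zpowers v) (zpowers y) hnorm
    have hbij : Function.Bijective (fun a : zpowers v × zpowers y =>
        (⟨(a.1 : G) * a.2, mul_mem (mem_sup_left a.1.2) (mem_sup_right a.2.2)⟩ : D)) := by
      constructor
      · rintro ⟨a, b⟩ ⟨a', b'⟩ e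
        have e' : (a : G) * b = a' * b' := congrArg Subtype.val e
        have hdis : Disjoint (zpowers v) (zpowers y) := disjoint_of_coprime_natCard (by
          rw [Nat.card_zpowers, Nat.card_zpowers, hv, hy]
          exact (Nat.coprime_primes Nat.prime_two hp).mpr (Ne.symm hp2))
        exact Subgroup.mul_injective_of_disjoint hdis e'
      · rintro ⟨z, hz⟩
        have : z ∈ (zpowers v : Set G) * (zpowers y : Set G) := hmul ▸ hz
        obtain ⟨a, ha, b, hb, rfl⟩ := this
        exact ⟨(⟨a, ha⟩, ⟨b, hb⟩), rfl⟩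
    rw [← Nat.card_eq_of_bijective _ hbij, Nat.card_prod, Nat.card_zpowers, Nat.card_zpowers, hv, hy]
  haveI hDc : IsCyclic D := (hC.cyclic_iff (h1.trans h2.symm)).mp inferInstance
  have hvy : Commute v y := congrArg Subtype.val
    ((IsCyclic.isMulCommutative (α := D)).is_comm.comm ⟨v, mem_sup_left (mem_zpowers v)⟩
      ⟨y, mem_sup_right (mem_zpowers y)⟩)
  rw [hvy.eq, mul_inv_cancel_right] at hinv
  have h3 : y ^ 2 = 1 := by rw [pow_two]; nth_rewrite 1 [hinv]; exact inv_mul_cancel y
  exact hp2 ((Nat.prime_dvd_prime_iff_eq hp Nat.prime_two).mp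
    (hy ▸ orderOf_dvd_of_pow_eq_one h3))

theorem exists_klein {S : Subgroup G} (hS : IsPGroup 2 S) {a b : G} (ha : a ∈ S) (hb : b ∈ S)
    (ha2 : orderOf a = 2) (hb2 : orderOf b = 2) (hab : a ≠ b) :
    ∃ V : Subgroup G, V ≤ S ∧ Nat.card V = 4 ∧ ¬ IsCyclic V := by
  classical
  haveI : Fact (Nat.Prime 2) := ⟨Nat.prime_two⟩
  haveI : Nontrivial S :=
    ⟨⟨a, ha⟩, 1, fun e => Invol.ne_one_of_invol ha2 (congrArg Subtype.val e)⟩
  haveI := hS.center_nontrivial
  obtain ⟨z, hz⟩ := exists_prime_orderOf_dvd_card' (G := center S) 2 (by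
    obtain ⟨k, hk⟩ := (hS.to_subgroup (center S)).exists_card_eq
    rcases k with _ | k
    · exact absurd (hk.trans (pow_zero 2)) (Finite.one_lt_card (α := center S)).ne'
    · rw [hk]; exact dvd_pow_self 2 k.succ_ne_zero)
  have hz2 : orderOf ((z : S) : G) = 2 := by rw [orderOf_coe, orderOf_coe, hz]
  obtain ⟨c, hc, hc2, hcz⟩ : ∃ c ∈ S, orderOf c = 2 ∧ c ≠ ((z : S) : G) := by
    by_cases e : a = ((z : S) : G)
    · exact ⟨b, hb, hb2, fun e' => hab (e.trans e'.symm)⟩
    · exact ⟨a, ha, ha2, e⟩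
  have hcomm : Commute c ((z : S) : G) :=
    congrArg Subtype.val (mem_center_iff.mp z.2 ⟨c, hc⟩)
  set u := ((z : S) : G)
  have hu1 := Invol.mul_self_eq_one hz2
  have hc1 := Invol.mul_self_eq_one hc2
  let f : Fin 2 × Fin 2 → G := fun i => c ^ (i.1 : ℕ) * u ^ (i.2 : ℕ)
  let V : Subgroup G :=
    { carrier := Set.range f
      one_mem' := ⟨(0, 0), by simp [f]⟩
      mul_mem' := by
        rintro _ _ ⟨⟨i, j⟩, rfl⟩ ⟨⟨k, l⟩, rfl⟩
        refine ⟨(i + k, j + l), ?_⟩
        have e : ∀ (w : G), w * w = 1 → ∀ i k : Fin 2,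
            w ^ ((i + k : Fin 2) : ℕ) = w ^ (i : ℕ) * w ^ (k : ℕ) := by
          intro w hw i k; fin_cases i <;> fin_cases k <;> simp [hw]
        simp only [f, e c hc1, e u hu1]
        exact ((hcomm.pow_pow (k : ℕ) (j : ℕ)).mul_mul_mul_comm _ _)
      inv_mem' := by
        rintro _ ⟨⟨i, j⟩, rfl⟩
        refine ⟨(i, j), ?_⟩
        have e : ∀ (w : G), w * w = 1 → ∀ i : Fin 2, (w ^ (i : ℕ))⁻¹ = w ^ (i : ℕ) := by
          intro w hw i; fin_cases i <;> simp [inv_eq_of_mul_eq_one_right hw]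
        simp only [f, mul_inv_rev, e c hc1, e u hu1]
        exact (hcomm.pow_pow (i : ℕ) (j : ℕ)).eq }
  have hinj : Function.Injective f := by
    rintro ⟨i, j⟩ ⟨k, l⟩ e
    fin_cases i <;> fin_cases j <;> fin_cases k <;> fin_cases l <;>
      simp [f, Invol.ne_one_of_invol hz2, Invol.ne_one_of_invol hc2, hcz, Ne.symm hcz,
        (Invol.ne_one_of_invol hz2).symm, (Invol.ne_one_of_invol hc2).symm] at e ⊢
    all_goals
      exact hcz (by
        rw [← inv_eq_of_mul_eq_one_right hu1]
        exact eq_inv_of_mul_eq_one_left (by first | exact e | exact e.symm))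
  refine ⟨V, ?_, (Nat.card_range_of_injective hinj).trans (by simp), fun hcyc => hcz ?_⟩
  · rintro _ ⟨⟨i, j⟩, rfl⟩
    exact mul_mem (pow_mem hc _) (pow_mem (z : S).2 _)
  · have huV : u ∈ V := ⟨(0, 1), by simp [f]⟩
    have hcV : c ∈ V := ⟨(1, 0), by simp [f]⟩
    have heq := Frobenius.eq_of_card_eq_prime_of_isCyclic (C := V) Nat.prime_two
      (X := zpowers ⟨c, hcV⟩) (Y := zpowers ⟨u, huV⟩)
      (by rw [Nat.card_zpowers, orderOf_mk, hc2]) (by rw [Nat.card_zpowers, orderOf_mk, hz2])
    obtain ⟨k, hk⟩ := mem_zpowers_iff.mp (heq ▸ mem_zpowers (⟨c, hcV⟩ : V))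
    rcases Int.even_or_odd k with ⟨j, hj⟩ | ⟨j, hj⟩
    · have := congrArg Subtype.val hk
      rw [SubgroupClass.coe_zpow, hj, ← two_mul, zpow_mul, zpow_two, hu1, one_zpow] at this
      exact absurd this.symm (Invol.ne_one_of_invol hc2)
    · have := congrArg Subtype.val hk
      rw [SubgroupClass.coe_zpow, hj, zpow_add_one, zpow_mul, zpow_two, hu1, one_zpow,
        one_mul] at this
      exact this.symm

/-- A Sylow 2-subgroup is elementary abelian, cyclic or quaternion of order eight. -/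
theorem SameConj.sylow_two (hC : SameConj G) (S : Sylow 2 G) :
    IsCyclic (S : Subgroup G) ∨ (∀ s ∈ (S : Subgroup G), s * s = 1) ∨
      Nonempty ((S : Subgroup G) ≃* QuaternionGroup 2) := by
  classical
  haveI : Fact (Nat.Prime 2) := ⟨Nat.prime_two⟩
  by_cases huniq : ∀ a b : G, a ∈ (S : Subgroup G) → b ∈ (S : Subgroup G) → orderOf a = 2 →
      orderOf b = 2 → a = b
  swap
  · refine Or.inr (Or.inl fun s hs => ?_)
    push Not at huniq
    obtain ⟨a, b, ha, hb, ha2, hb2, hab⟩ := huniq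
    obtain ⟨V, -, hV, hVc⟩ := exists_klein S.2 ha hb ha2 hb2 hab
    obtain ⟨k, hk⟩ := IsPGroup.iff_orderOf.mp S.2 ⟨s, hs⟩
    rw [orderOf_mk] at hk
    rcases k with _ | _ | k
    · rw [pow_zero, orderOf_eq_one_iff] at hk; rw [hk, one_mul]
    · exact Invol.mul_self_eq_one (hk.trans (pow_one 2))
    · exfalso
      have h4 : orderOf (s ^ 2 ^ k) = 4 := by
        rw [orderOf_pow' _ (Nat.two_pow_pos k).ne', hk,
          Nat.gcd_eq_right (Nat.pow_dvd_pow 2 (by omega)), Nat.pow_div (by omega) two_pos,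
          show k + 1 + 1 - k = 2 by omega]
        norm_num
      exact hVc ((hC.cyclic_iff (by rw [Nat.card_zpowers, h4, hV])).mp
        (inferInstance : IsCyclic (zpowers (s ^ 2 ^ k))))
  have hcases := Cfsg.Agent.S0016.result (G := (S : Subgroup G)) 2 S.2 (fun H K hH hK => by
    have key : ∀ L : Subgroup (S : Subgroup G), Nat.card L = 2 →
        ∃ a ∈ L, orderOf (a : G) = 2 ∧ L = zpowers a := by
      intro L hL
      obtain ⟨a, ha⟩ := exists_prime_orderOf_dvd_card' (G := L) 2 (by rw [hL])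
      refine ⟨a, a.2, by rw [orderOf_coe, orderOf_coe, ha], (eq_of_le_of_card_ge
        (zpowers_le.mpr a.2) (by rw [hL, Nat.card_zpowers, orderOf_coe, ha])).symm⟩
    obtain ⟨a, -, ha, rfl⟩ := key H hH
    obtain ⟨b, -, hb, rfl⟩ := key K hK
    rw [Subtype.ext (huniq a b a.2 b.2 ha hb)])
  rcases hcases with h | ⟨-, n, ⟨e⟩⟩
  · exact Or.inl h
  rcases n with _ | _ | n
  · left
    haveI : IsCyclic (QuaternionGroup (2 ^ 0)) :=
      isCyclic_of_orderOf_eq_card (QuaternionGroup.xa 0) (by
        haveI : NeZero (2 ^ 0) := ⟨by norm_num⟩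
        rw [QuaternionGroup.orderOf_xa, Nat.card_eq_fintype_card, QuaternionGroup.card]; norm_num)
    exact e.isCyclic.mpr inferInstance
  · exact Or.inr (Or.inr ⟨e⟩)
  exfalso
  haveI : NeZero (2 ^ (n + 1 + 1)) := ⟨(Nat.two_pow_pos _).ne'⟩
  set S' := (S : Subgroup G)
  set x : S' := e.symm (QuaternionGroup.xa 0)
  have hx4 : orderOf x = 4 := by
    rw [MulEquiv.orderOf_eq, QuaternionGroup.orderOf_xa]
  have hScard : Nat.card S' = 2 ^ (n + 4) := by
    rw [Nat.card_congr e.toEquiv, Nat.card_eq_fintype_card, QuaternionGroup.card]; ring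
  obtain ⟨K, hK, hxK⟩ := Sylow.exists_subgroup_card_pow_prime_le (p := 2) (n := 2) (m := 3)
    (by rw [hScard]; exact Nat.pow_dvd_pow 2 (by omega)) (zpowers x)
    (by rw [Nat.card_zpowers, hx4]; norm_num) (by omega)
  have ho : orderOf (QuaternionGroup.a 1 : QuaternionGroup (2 ^ (n + 1 + 1))) = 2 ^ (n + 3) := by
    rw [QuaternionGroup.orderOf_a_one]; ring
  set g8 : S' := (e.symm (QuaternionGroup.a 1)) ^ 2 ^ n
  have hg8 : orderOf g8 = 8 := by
    rw [orderOf_pow' _ (Nat.two_pow_pos n).ne', MulEquiv.orderOf_eq, ho,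
      Nat.gcd_eq_right (Nat.pow_dvd_pow 2 (by omega)), Nat.pow_div (by omega) two_pos,
      show n + 3 - n = 3 by omega]
    norm_num
  have hKc : IsCyclic K := by
    have h1 : Nat.card (K.map S'.subtype) = Nat.card ((zpowers g8).map S'.subtype) := by
      rw [card_map_of_injective S'.subtype_injective, card_map_of_injective S'.subtype_injective,
        hK, Nat.card_zpowers, hg8]
      norm_num
    exact (K.equivMapOfInjective _ S'.subtype_injective).isCyclic.mpr ((hC.cyclic_iff h1).mpr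
      (((zpowers g8).equivMapOfInjective _ S'.subtype_injective).isCyclic.mp inferInstance))
  obtain ⟨w, hw⟩ := hKc.exists_generator
  obtain ⟨k, hk⟩ := mem_zpowers_iff.mp (hw ⟨x, hxK (mem_zpowers x)⟩)
  have hxk : x = (w : S') ^ k := (congrArg Subtype.val hk).symm
  rcases Int.even_or_odd k with ⟨j, hj⟩ | ⟨j, hj⟩
  · have e1 := congrArg e hxk
    rw [hj, ← two_mul, mul_comm, zpow_mul, zpow_two, map_mul] at e1
    simp only [x, MulEquiv.apply_symm_apply] at e1
    cases hw' : e ((w : S') ^ j) with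
    | a i => rw [hw', QuaternionGroup.a_mul_a] at e1; cases e1
    | xa i => rw [hw', QuaternionGroup.xa_mul_xa] at e1; cases e1
  · have hw8 : orderOf (w : S') = 8 := by
      rw [orderOf_coe, orderOf_eq_card_of_forall_mem_zpowers hw, hK]; norm_num
    have h1 : ((w : S') ^ k) ^ 4 = 1 := by rw [← hxk, ← hx4, pow_orderOf_eq_one]
    rw [← zpow_natCast, ← zpow_mul, ← orderOf_dvd_iff_zpow_eq_one, hw8] at h1
    omega

/-- The centraliser of an involution normalises the Sylow 2-subgroup. -/
theorem SameConj.centralizer_le_normalizer (hC : SameConj G) {S : Sylow 2 G}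
    (hS : ∀ s ∈ (S : Subgroup G), s * s = 1) {t : G} (ht : t ∈ (S : Subgroup G)) (h1 : t ≠ 1) :
    centralizer ({t} : Set G) ≤ normalizer ((S : Subgroup G) : Set G) := by
  classical
  haveI : Fact (Nat.Prime 2) := ⟨Nat.prime_two⟩
  have ht2 : orderOf t = 2 := Invol.orderOf_eq_two h1 (hS t ht)
  set H := centralizer ({t} : Set G)
  have hSH : (S : Subgroup G) ≤ H := fun s hs => mem_centralizer_singleton_iff.mpr (by
    have e := hS _ (mul_mem hs ht)
    calc s * t = s * (s * t * (s * t)) * t := by rw [e, mul_one]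
      _ = (s * s) * (t * s) * (t * t) := by group
      _ = t * s := by rw [hS s hs, hS t ht, one_mul, mul_one])
  intro c hc
  have key : ∀ s ∈ (S : Subgroup G), c * s * c⁻¹ ∈ (S : Subgroup G) := by
    intro s hs
    by_cases hs1 : s = 1
    · subst hs1; simp
    obtain ⟨M, hM, hMp, hsM⟩ : ∃ M : Subgroup H, M.Normal ∧ IsPGroup 2 M ∧ ⟨s, hSH hs⟩ ∈ M := by
      by_contra hne
      push Not at hne
      obtain ⟨x, hx1, hxo, hxi⟩ := Invol.exists_odd_inverted_of_notMem_normal_two
        (t := (⟨s, hSH hs⟩ : H)) (by rw [orderOf_mk]; exact Invol.orderOf_eq_two hs1 (hS s hs))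
        fun N hN hNp => hne N hN hNp
      exact hC.noMixedPrime.false_of_commute (y := (x : G)) (v := s) (u := t)
        (fun e => hx1 (Subtype.ext e)) (by rwa [orderOf_coe]) (Invol.orderOf_eq_two hs1 (hS s hs))
        (congrArg Subtype.val hxi) ht2 (mem_centralizer_singleton_iff.mp x.2).symm
    haveI := hM
    have hle : M ≤ (S.subtype hSH : Subgroup H) :=
      le_sup_left.trans (((S.subtype hSH).3 (hMp.to_sup_of_normal_left (S.subtype hSH).2)
        le_sup_right).le)
    exact hle (hM.conj_mem _ hsM ⟨c, hc⟩)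
  rw [mem_normalizer_iff]
  intro x
  refine ⟨key x, fun hx => ?_⟩
  have hmap : (S : Subgroup G).map (MulAut.conj c).toMonoidHom = S :=
    eq_of_le_of_card_ge (by rintro _ ⟨s, hs, rfl⟩; exact key s hs)
      (by rw [card_map_of_injective (MulEquiv.injective _)])
  rw [← hmap] at hx
  obtain ⟨s, hs, e⟩ := hx
  have : s = x := (MulAut.conj c).injective (by simpa using e)
  exact this ▸ hs

end CfsgLib.SameOrderConj
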