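import Cfsg.Agent.Lib.SameOrderConj.Basic
import Cfsg.Agent.Lib.PSL2Sub.Small
import Cfsg.Agent.S4025
import Cfsg.Agent.S0205
import Cfsg.Agent.Lib.TIElem.Odd

/-!
# The normaliser of an elementary abelian Sylow 2-subgroup
-/

set_option autoImplicit false
set_option linter.unusedSectionVars false
set_option linter.style.haveILetI false

namespace CfsgLib.SameOrderConj

open Subgroup

universe u

/-- The elementary abelian case. -/
structure ElemCase {G : Type u} [Group G] (S : Sylow 2 G) : Prop where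
  conj : SameConj G
  core : Cfsg.oddCore G = ⊥
  elem : ∀ s ∈ (S : Subgroup G), s * s = 1
  four : 4 ≤ Nat.card (S : Subgroup G)

namespace ElemCase

variable {G : Type u} [Group G] [Finite G] {S : Sylow 2 G} (h : ElemCase S)
include h

local notation "HN" => normalizer ((S : Subgroup G) : Set G)
local notation "HC" => centralizer ((S : Subgroup G) : Set G)

theorem comm {a b : G} (ha : a ∈ (S : Subgroup G)) (hb : b ∈ (S : Subgroup G)) :
    a * b = b * a := by
  have e := h.elem _ (mul_mem ha hb)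
  calc a * b = a * (a * b * (a * b)) * b := by rw [e, mul_one]
    _ = a * a * (b * a) * (b * b) := by group
    _ = b * a := by rw [h.elem a ha, h.elem b hb, one_mul, mul_one]

theorem le_centralizer : (S : Subgroup G) ≤ HC := fun _ ha _ hb => h.comm hb ha

theorem orderOf_mem {t : G} (ht : t ∈ (S : Subgroup G)) (h1 : t ≠ 1) : orderOf t = 2 :=
  Invol.orderOf_eq_two h1 (h.elem t ht)

theorem exists_invol : ∃ t ∈ (S : Subgroup G), t ≠ 1 := by
  by_contra hne
  push Not at hne
  have := h.four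
  rw [(eq_bot_iff_forall _).mpr hne, card_bot] at this
  omega

theorem centralizer_le {t : G} (ht : t ∈ (S : Subgroup G)) (h1 : t ≠ 1) :
    centralizer ({t} : Set G) ≤ HN :=
  h.conj.centralizer_le_normalizer h.elem ht h1

theorem mem_normalizer_of_conj {t g : G} (ht : t ∈ (S : Subgroup G)) (h1 : t ≠ 1)
    (hg : g * t * g⁻¹ ∈ (S : Subgroup G)) : g ∈ HN := by
  have hPc : ((S : Subgroup G).map (MulAut.conj g⁻¹).toMonoidHom) ≤ centralizer ({t} : Set G) := by
    rintro _ ⟨s, hs, rfl⟩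
    rw [mem_centralizer_singleton_iff]
    have e := h.comm hs hg
    simp only [MulEquiv.coe_toMonoidHom, MulAut.conj_apply, inv_inv]
    calc g⁻¹ * s * g * t = g⁻¹ * (s * (g * t * g⁻¹)) * g := by group
      _ = g⁻¹ * ((g * t * g⁻¹) * s) * g := by rw [e]
      _ = t * (g⁻¹ * s * g) := by group
  haveI : Fact (Nat.Prime 2) := ⟨Nat.prime_two⟩
  have hsup : IsPGroup 2
      ↥((S : Subgroup G).map (MulAut.conj g⁻¹).toMonoidHom ⊔ (S : Subgroup G)) :=
    IsPGroup.to_sup_of_normal_right' (S.2.map _) S.2 (hPc.trans (h.centralizer_le ht h1))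
  have heq := eq_of_le_of_card_ge (le_sup_left.trans (S.3 hsup le_sup_right).le)
    (by rw [card_map_of_injective (MulEquiv.injective _)])
  refine inv_mem_iff.mp (mem_normalizer_iff.mpr fun x => ?_)
  conv_rhs => rw [← heq]
  rw [← mem_map_iff_mem (f := (MulAut.conj g⁻¹).toMonoidHom) (MulEquiv.injective _)]
  rfl

/-- The involutions of `S` are conjugate in the normaliser. -/
theorem card_centralizer_mul {t : G} (ht : t ∈ (S : Subgroup G)) (h1 : t ≠ 1) :
    Nat.card (centralizer ({t} : Set G)) * (Nat.card (S : Subgroup G) - 1) = Nat.card HN := by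
  classical
  set N := HN with hN
  have hle := h.centralizer_le ht h1
  set f : N → {s : (S : Subgroup G) // s ≠ 1} := fun n =>
    ⟨⟨(n : G) * t * (n : G)⁻¹, (mem_normalizer_iff.mp n.2 t).mp ht⟩, fun e => h1 (by
      have e' : (n : G) * t * (n : G)⁻¹ = 1 := congrArg Subtype.val e
      simpa [mul_inv_eq_one] using e')⟩ with hf
  have hfiber : ∀ a b : N, f a = f b ↔
      QuotientGroup.mk (s := (centralizer ({t} : Set G)).subgroupOf N) a = QuotientGroup.mk b := by
    intro a b
    rw [QuotientGroup.eq, mem_subgroupOf, hf, Subtype.mk.injEq, Subtype.mk.injEq,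
      mem_centralizer_singleton_iff]
    simp only [coe_mul, InvMemClass.coe_inv]
    constructor
    · intro e
      calc (a : G)⁻¹ * b * t = (a : G)⁻¹ * (b * t * (b : G)⁻¹) * b := by group
        _ = t * ((a : G)⁻¹ * b) := by rw [← e]; group
    · intro e
      calc (a : G) * t * (a : G)⁻¹ = a * (t * ((a : G)⁻¹ * b)) * (b : G)⁻¹ := by group
        _ = a * (((a : G)⁻¹ * b) * t) * (b : G)⁻¹ := by rw [e]
        _ = b * t * (b : G)⁻¹ := by group
  have hsurj : Function.Surjective f := by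
    rintro ⟨⟨s, hs⟩, hs1⟩
    have hs1' : s ≠ 1 := fun e => hs1 (Subtype.ext e)
    obtain ⟨g, hg⟩ := isConj_iff.mp (h.conj.isConj_invol (h.orderOf_mem ht h1)
      (h.orderOf_mem hs hs1'))
    exact ⟨⟨g, h.mem_normalizer_of_conj ht h1 (hg ▸ hs)⟩, Subtype.ext (Subtype.ext hg)⟩
  let F : N ⧸ (centralizer ({t} : Set G)).subgroupOf N → {s : (S : Subgroup G) // s ≠ 1} :=
    fun x => Quotient.liftOn' x f fun a b hab => (hfiber a b).mpr (Quotient.sound' hab)
  have hF : Function.Bijective F := by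
    refine ⟨fun x y => ?_, fun s => ?_⟩
    · induction x using QuotientGroup.induction_on with
      | _ a => induction y using QuotientGroup.induction_on with
        | _ b => exact fun e => (hfiber a b).mp e
    · obtain ⟨n, hn'⟩ := hsurj s
      exact ⟨QuotientGroup.mk n, hn'⟩
  rw [card_eq_card_quotient_mul_card_subgroup ((centralizer ({t} : Set G)).subgroupOf N),
    Nat.card_eq_of_bijective F hF, Nat.card_congr (subgroupOfEquivOfLe hle).toEquiv, mul_comm]
  haveI : Fintype (S : Subgroup G) := Fintype.ofFinite _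
  simp [Nat.card_eq_fintype_card, Fintype.card_subtype_compl]

theorem core_le_centralizer :
    (Cfsg.pPrimeCore 2 ↥HN).map (normalizer ((S : Subgroup G) : Set G)).subtype ≤ HC := by
  rintro _ ⟨w, hw, rfl⟩ s hs
  haveI : (Cfsg.pPrimeCore 2 ↥HN).Normal := Solvable.pPrimeCore_normal 2 _
  haveI : ((S : Subgroup G).subgroupOf HN).Normal := normal_in_normalizer
  exact congrArg Subtype.val (Subgroup.commute_of_normal_of_disjoint ((S : Subgroup G).subgroupOf HN)
    (Cfsg.pPrimeCore 2 ↥HN) inferInstance inferInstance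
    (disjoint_of_coprime_natCard (by
      obtain ⟨a, ha⟩ := (S.2 : IsPGroup 2 (S : Subgroup G)).exists_card_eq
      rw [Nat.card_congr (subgroupOfEquivOfLe le_normalizer).toEquiv, ha]
      exact (Nat.Coprime.pow_left _ (Solvable.pPrimeCore_card_coprime 2 _).symm)))
    ⟨s, le_normalizer hs⟩ w hs hw).eq

theorem card_centralizer :
    Nat.card HC = Nat.card (S : Subgroup G) * Nat.card (Cfsg.pPrimeCore 2 ↥HN) := by
  classical
  haveI : Fact (Nat.Prime 2) := ⟨Nat.prime_two⟩
  haveI : (Cfsg.pPrimeCore 2 ↥HN).Normal := Solvable.pPrimeCore_normal 2 _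
  set P := S.subtype h.le_centralizer
  have hP : normalizer ((P : Subgroup HC) : Set HC) ≤ centralizer ((P : Subgroup HC) : Set HC) := by
    intro c _ s hs
    exact Subtype.ext (c.2 (s : G) hs)
  have hc := MonoidHom.ker_transferSylow_isComplement' P hP
  set D := (MonoidHom.transferSylow P hP).ker
  have hDodd : (Nat.card D).Coprime 2 :=
    ((Nat.Prime.coprime_iff_not_dvd Nat.prime_two).mpr
      (MonoidHom.not_dvd_card_ker_transferSylow P hP)).symm
  have hDmem : ∀ x : HC, (orderOf x).Coprime 2 → x ∈ D := by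
    intro x hx
    refine MonoidHom.mem_ker.mpr (orderOf_eq_one_iff.mp ?_)
    obtain ⟨a, ha⟩ := (P.2 : IsPGroup 2 (P : Subgroup HC)).exists_card_eq
    exact Nat.eq_one_of_dvd_coprimes (hx.pow_right a) (orderOf_map_dvd _ x)
      (ha ▸ orderOf_dvd_natCard _)
  have hCN : HC ≤ HN := centralizer_le_normalizer _
  haveI hnorm := TIElem.normal_centralizer_subgroupOf (S : Subgroup G)
  set D' := (D.map (centralizer ((S : Subgroup G) : Set G)).subtype).subgroupOf HN
  have hD'n : D'.Normal := by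
    refine ⟨?_⟩
    rintro x ⟨d, hd, hdx⟩ g
    have hdx' : (d : G) = x := hdx
    have hxC : (g : G) * x * (g : G)⁻¹ ∈ HC := by
      have := hnorm.conj_mem x (show (x : G) ∈ HC from hdx' ▸ d.2) g
      exact this
    refine ⟨⟨_, hxC⟩, hDmem _ ?_, rfl⟩
    rw [← orderOf_coe, Subtype.coe_mk, Invol.orderOf_conj, ← hdx']
    show (orderOf (d : G)).Coprime 2
    rw [orderOf_coe]
    exact hDodd.coprime_dvd_left (Subgroup.orderOf_dvd_natCard _ hd)
  have hcardD : Nat.card D' = Nat.card D :=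
    (Nat.card_congr (subgroupOfEquivOfLe ((map_subtype_le _).trans hCN)).toEquiv).trans
      (card_map_of_injective (Subgroup.subtype_injective _))
  have hle1 : D' ≤ Cfsg.pPrimeCore 2 ↥HN := Solvable.le_pPrimeCore hD'n (hcardD ▸ hDodd)
  have hle2 : Cfsg.pPrimeCore 2 ↥HN ≤ D' := by
    intro w hw
    have hwC := h.core_le_centralizer ⟨w, hw, rfl⟩
    refine ⟨⟨_, hwC⟩, hDmem _ ?_, rfl⟩
    rw [← orderOf_coe]
    show (orderOf (w : G)).Coprime 2
    rw [orderOf_coe]
    exact (Solvable.pPrimeCore_card_coprime 2 _).coprime_dvd_left (Subgroup.orderOf_dvd_natCard _ hw)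
  rw [← le_antisymm hle1 hle2, hcardD, ← hc.card_mul_card, mul_comm,
    show Nat.card (P : Subgroup HC) = Nat.card (S : Subgroup G) from
      (Nat.card_congr (MulEquiv.subgroupCongr (Sylow.coe_subtype S h.le_centralizer)).toEquiv).trans
        (Nat.card_congr (subgroupOfEquivOfLe h.le_centralizer).toEquiv)]

theorem centralizer_le_of_four (h4 : Nat.card (S : Subgroup G) = 4) {t : G}
    (ht : t ∈ (S : Subgroup G)) (h1 : t ≠ 1) :
    centralizer ({t} : Set G) ≤ HC := by
  classical
  intro c hc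
  have hcN := h.centralizer_le ht h1 hc
  have hct : c * t * c⁻¹ = t := by
    rw [mem_centralizer_singleton_iff.mp hc, mul_inv_cancel_right]
  -- `c²` centralises `S`
  have h2 : c ^ 2 ∈ HC := by
    intro s hs
    have hcs := (mem_normalizer_iff.mp hcN s).mp hs
    suffices e : c * (c * s * c⁻¹) * c⁻¹ = s by
      calc s * c ^ 2 = c * (c * s * c⁻¹) * c⁻¹ * c ^ 2 := by rw [e]
        _ = c ^ 2 * s := by simp [pow_two, mul_assoc]
    by_cases hs1 : s = 1
    · simp [hs1]
    by_cases hst : s = t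
    · rw [hst, hct, hct]
    by_cases hfix : c * s * c⁻¹ = s
    · rw [hfix, hfix]
    set s₁ := c * s * c⁻¹
    -- the four elements of `S` are `1, t, s, c s c⁻¹`
    haveI : Fintype (S : Subgroup G) := Fintype.ofFinite _
    have hn1 : s₁ ≠ 1 := fun e => hs1 (conj_eq_one_iff.mp e)
    have hn2 : s₁ ≠ t := fun e => hst ((MulAut.conj c).injective (e.trans hct.symm))
    have huniv : ({1, ⟨t, ht⟩, ⟨s, hs⟩, ⟨s₁, hcs⟩} : Finset (S : Subgroup G)) = Finset.univ := by
      refine Finset.eq_univ_of_card _ ?_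
      rw [← Nat.card_eq_fintype_card, h4, Finset.card_insert_of_notMem, Finset.card_insert_of_notMem,
        Finset.card_insert_of_notMem, Finset.card_singleton]
      · simp only [Finset.mem_singleton, Subtype.mk.injEq]; exact fun e => hfix e.symm
      · simp only [Finset.mem_insert, Finset.mem_singleton, Subtype.mk.injEq, not_or]
        exact ⟨fun e => hst e.symm, fun e => hn2 e.symm⟩
      · simp only [Finset.mem_insert, Finset.mem_singleton, Subtype.ext_iff, OneMemClass.coe_one,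
          not_or]
        exact ⟨fun e => h1 e.symm, fun e => hs1 e.symm, fun e => hn1 e.symm⟩
    have hcs2 := (mem_normalizer_iff.mp hcN s₁).mp hcs
    have hmem := huniv.symm ▸ Finset.mem_univ (⟨c * s₁ * c⁻¹, hcs2⟩ : (S : Subgroup G))
    simp only [Finset.mem_insert, Finset.mem_singleton, Subtype.ext_iff, OneMemClass.coe_one] at hmem
    rcases hmem with e | e | e | e
    · exact absurd (conj_eq_one_iff.mp e) hn1
    · exact absurd ((MulAut.conj c).injective (e.trans hct.symm)) hn2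
    · exact e
    · exact absurd ((MulAut.conj c).injective e) hfix
  haveI : ((HC).subgroupOf HN).Normal := TIElem.normal_centralizer_subgroupOf (S : Subgroup G)
  have hodd : Odd ((HC).relIndex HN) := by
    rw [← Nat.not_even_iff_odd]
    intro hev
    haveI : Fact (Nat.Prime 2) := ⟨Nat.prime_two⟩
    exact S.not_dvd_index (((even_iff_two_dvd.mp hev).trans
      (relIndex_dvd_of_le_left HN h.le_centralizer)).trans (relIndex_dvd_index_of_le le_normalizer))
  obtain ⟨j, hj⟩ := hodd
  have hm := ((HC).subgroupOf HN).pow_index_mem ⟨c, hcN⟩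
  rw [← relIndex, hj, pow_succ, pow_mul] at hm
  have hm' : (c ^ 2) ^ j * c ∈ HC := hm
  exact (mul_mem_cancel_left (pow_mem h2 j)).mp hm'

theorem isElementaryAbelian : Cfsg.IsElementaryAbelian 2 (S : Subgroup G) :=
  ⟨⟨⟨fun a b => Subtype.ext (h.comm a.2 b.2)⟩⟩, fun x hx => by rw [pow_two]; exact h.elem x hx⟩

theorem exists_card : ∃ n, 2 ≤ n ∧ Nat.card (S : Subgroup G) = 2 ^ n := by
  obtain ⟨n, hn⟩ := (S.2 : IsPGroup 2 (S : Subgroup G)).exists_card_eq
  refine ⟨n, ?_, hn⟩
  have h4 := h.four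
  rcases n with _ | _ | n
  · simp [hn] at h4
  · simp [hn] at h4
  · omega

theorem normalizer_quotient_solvable :
    Group.IsSolvable (↥HN ⧸ Cfsg.pPrimeCore 2 ↥HN) := by
  haveI : Fact (Nat.Prime 2) := ⟨Nat.prime_two⟩
  haveI : (Cfsg.pPrimeCore 2 ↥HN).Normal := Solvable.pPrimeCore_normal 2 _
  haveI : ((S : Subgroup G).subgroupOf HN).Normal := normal_in_normalizer
  set P := ((S : Subgroup G).subgroupOf HN)
  haveI : Group.IsNilpotent P :=
    ((S.2.of_equiv (subgroupOfEquivOfLe le_normalizer).symm) : IsPGroup 2 P).isNilpotent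
  haveI : Group.IsSolvable (↥HN ⧸ P) := Cfsg.Agent.S0205.result (by
    rw [← Subgroup.index_eq_card, ← Nat.not_even_iff_odd]
    exact fun hev => (S.subtype (le_normalizer (H := (S : Subgroup G)))).not_dvd_index
      (even_iff_two_dvd.mp hev))
  haveI : Group.IsSolvable ↥HN := Group.isSolvable_of_ker_le_range P.subtype (QuotientGroup.mk' P)
    (by rw [QuotientGroup.ker_mk', Subgroup.range_subtype])
  infer_instance

theorem structure_normalizer {n : ℕ} (hn : 3 ≤ n) (hcard : Nat.card (S : Subgroup G) = 2 ^ n) :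
    (n = 3 ∧ (Nonempty (↥HN ⧸ Cfsg.pPrimeCore 2 ↥HN ≃* Cfsg.semiaffineGroup (GaloisField 2 3)) ∨
      Nonempty (↥HN ⧸ Cfsg.pPrimeCore 2 ↥HN ≃* Cfsg.affineGroup (GaloisField 2 3)))) ∨
    (n = 5 ∧ Nonempty (↥HN ⧸ Cfsg.pPrimeCore 2 ↥HN ≃* Cfsg.semiaffineGroup (GaloisField 2 5))) := by
  haveI : Fact (Nat.Prime 2) := ⟨Nat.prime_two⟩
  rcases Cfsg.Agent.S4025.result (fun H K _ _ e => h.conj H K e) S n hn h.isElementaryAbelian hcard
    _ rfl h.normalizer_quotient_solvable with ⟨rfl, -, h3⟩ | ⟨rfl, -, h5⟩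
  · exact Or.inl ⟨rfl, h3 rfl⟩
  · exact Or.inr ⟨rfl, h5⟩

end ElemCase

theorem card_semiaffine (E : Type u) [Field E] [Finite E] :
    Nat.card (Cfsg.semiaffineGroup E) = Nat.card Eˣ * Nat.card E * Nat.card (E ≃+* E) := by
  haveI : Finite (E ≃+* E) := Finite.of_injective _ DFunLike.coe_injective
  rw [← Nat.card_prod, ← Nat.card_prod]
  symm
  refine Nat.card_eq_of_bijective (fun t => ⟨(t.2.toEquiv.trans (Equiv.mulLeft₀ (t.1.1 : E)
    t.1.1.ne_zero)).trans (Equiv.addRight t.1.2), t.1.1, t.1.2, t.2, fun x => rfl⟩) ⟨?_, ?_⟩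
  · rintro ⟨⟨a, b⟩, φ⟩ ⟨⟨a', b'⟩, φ'⟩ e
    have e' : ∀ x, (a : E) * φ x + b = (a' : E) * φ' x + b' := fun x =>
      Equiv.congr_fun (congrArg Subtype.val e) x
    have hb : b = b' := by simpa using e' 0
    have ha : a = a' := Units.ext (by simpa [hb] using e' 1)
    have hφ : φ = φ' := RingEquiv.ext fun x => by simpa [hb, ha] using e' x
    rw [ha, hb, hφ]
  · rintro ⟨s, a, b, φ, hs⟩
    exact ⟨((a, b), φ), Subtype.ext (Equiv.ext fun x => (hs x).symm)⟩

theorem card_affine (E : Type u) [Field E] [Finite E] :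
    Nat.card (Cfsg.affineGroup E) = Nat.card Eˣ * Nat.card E := by
  rw [← Nat.card_prod]
  symm
  refine Nat.card_eq_of_bijective (fun t => ⟨(Equiv.mulLeft₀ (t.1 : E) t.1.ne_zero).trans
    (Equiv.addRight t.2), t.1, t.2, fun x => rfl⟩) ⟨?_, ?_⟩
  · rintro ⟨a, b⟩ ⟨a', b'⟩ e
    have e' : ∀ x, (a : E) * x + b = (a' : E) * x + b' := fun x =>
      Equiv.congr_fun (congrArg Subtype.val e) x
    have hb : b = b' := by simpa using e' 0
    have ha : a = a' := Units.ext (by simpa [hb] using e' 1)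
    rw [ha, hb]
  · rintro ⟨s, a, b, hs⟩
    exact ⟨(a, b), Subtype.ext (Equiv.ext fun x => (hs x).symm)⟩

theorem card_ringAut_galois (n : ℕ) (hn : n ≠ 0) :
    Nat.card (GaloisField 2 n ≃+* GaloisField 2 n) = n := by
  haveI : Fact (Nat.Prime 2) := ⟨Nat.prime_two⟩
  haveI : Fintype (GaloisField 2 n) := Fintype.ofFinite _
  exact (CfsgLib.Semilinear.isCyclic_ringEquiv_and_card (F := GaloisField 2 n) (q := 2) (d := n)
    (by rw [← Nat.card_eq_fintype_card, GaloisField.card 2 n hn])).2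

namespace ElemCase

variable {G : Type u} [Group G] [Finite G] {S : Sylow 2 G} (h : ElemCase S)
include h

local notation "HN" => normalizer ((S : Subgroup G) : Set G)
local notation "HC" => centralizer ((S : Subgroup G) : Set G)

/-- The possible fusion patterns. -/
theorem cases :
    ∃ n, Nat.card (S : Subgroup G) = 2 ^ n ∧
      (((n = 2 ∨ n = 3) ∧ ∀ t ∈ (S : Subgroup G), t ≠ 1 → centralizer ({t} : Set G) ≤ HC) ∨
       ∃ r, ((n = 3 ∧ r = 3) ∨ (n = 5 ∧ r = 5)) ∧ ∀ t ∈ (S : Subgroup G), t ≠ 1 →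
          Nat.card (centralizer ({t} : Set G)) = r * Nat.card HC) := by
  haveI : Fact (Nat.Prime 2) := ⟨Nat.prime_two⟩
  haveI : (Cfsg.pPrimeCore 2 ↥HN).Normal := Solvable.pPrimeCore_normal 2 _
  obtain ⟨n, hn, hcard⟩ := h.exists_card
  refine ⟨n, hcard, ?_⟩
  by_cases h2 : n = 2
  · subst h2
    exact Or.inl ⟨Or.inl rfl, fun t ht h1 => h.centralizer_le_of_four hcard ht h1⟩
  have hcases := h.structure_normalizer (show 3 ≤ n by omega) hcard
  have hN : ∀ t ∈ (S : Subgroup G), t ≠ 1 →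
      Nat.card (centralizer ({t} : Set G)) * (2 ^ n - 1) =
        Nat.card (↥HN ⧸ Cfsg.pPrimeCore 2 ↥HN) * Nat.card (Cfsg.pPrimeCore 2 ↥HN) := by
    intro t ht h1
    rw [← card_eq_card_quotient_mul_card_subgroup, ← hcard, h.card_centralizer_mul ht h1]
  have hu : ∀ k : ℕ, k ≠ 0 → Nat.card (GaloisField 2 k)ˣ = 2 ^ k - 1 := fun k hk => by
    rw [Nat.card_units, GaloisField.card 2 k hk]
  rcases hcases with ⟨rfl, ⟨⟨e⟩⟩ | ⟨⟨e⟩⟩⟩ | ⟨rfl, ⟨e⟩⟩
  · refine Or.inr ⟨3, Or.inl ⟨rfl, rfl⟩, fun t ht h1 => ?_⟩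
    have e1 := hN t ht h1
    rw [Nat.card_congr e.toEquiv, card_semiaffine, hu 3 three_ne_zero, GaloisField.card 2 3 three_ne_zero,
      card_ringAut_galois 3 three_ne_zero] at e1
    rw [h.card_centralizer, hcard]
    norm_num at e1 ⊢
    omega
  · refine Or.inl ⟨Or.inr rfl, fun t ht h1 => ?_⟩
    have e1 := hN t ht h1
    rw [Nat.card_congr e.toEquiv, card_affine, hu 3 three_ne_zero, GaloisField.card 2 3 three_ne_zero] at e1
    refine (eq_of_le_of_card_ge (Subgroup.centralizer_le (Set.singleton_subset_iff.mpr ht)) ?_).ge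
    rw [h.card_centralizer, hcard]
    norm_num at e1 ⊢
    omega
  · refine Or.inr ⟨5, Or.inr ⟨rfl, rfl⟩, fun t ht h1 => ?_⟩
    have e1 := hN t ht h1
    rw [Nat.card_congr e.toEquiv, card_semiaffine, hu 5 (by norm_num), GaloisField.card 2 5 (by norm_num),
      card_ringAut_galois 5 (by norm_num)] at e1
    rw [h.card_centralizer, hcard]
    norm_num at e1 ⊢
    omega

/-- The case of a normal Sylow 2-subgroup. -/
theorem of_normal (hnorm : (S : Subgroup G).Normal) :
    Nonempty (G ≃* Cfsg.affineGroup (GaloisField 2 3)) ∨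
    Nonempty (G ≃* Cfsg.semiaffineGroup (GaloisField 2 3)) ∨
    Nonempty (G ≃* Cfsg.semiaffineGroup (GaloisField 2 5)) ∨
    Nonempty (G ≃* alternatingGroup (Fin 4)) := by
  classical
  haveI : Fact (Nat.Prime 2) := ⟨Nat.prime_two⟩
  have hNtop : HN = ⊤ := normalizer_eq_top_iff.mpr hnorm
  haveI : (Cfsg.pPrimeCore 2 ↥HN).Normal := Solvable.pPrimeCore_normal 2 _
  have hK : Cfsg.pPrimeCore 2 ↥HN = ⊥ := by
    set K' := (Cfsg.pPrimeCore 2 ↥HN).map (normalizer ((S : Subgroup G) : Set G)).subtype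
    have hKn : K'.Normal := by
      refine ⟨?_⟩
      rintro _ ⟨k, hk, rfl⟩ g
      exact ⟨⟨g, hNtop ▸ mem_top g⟩ * k * ⟨g, hNtop ▸ mem_top g⟩⁻¹,
        (Solvable.pPrimeCore_normal 2 _).conj_mem _ hk _, by simp⟩
    have := Solvable.le_pPrimeCore (p := 2) hKn (by
      rw [card_map_of_injective (Subgroup.subtype_injective _)]
      exact Solvable.pPrimeCore_card_coprime 2 _)
    rw [show Cfsg.pPrimeCore 2 G = ⊥ from h.core, le_bot_iff,
      map_eq_bot_iff_of_injective _ (Subgroup.subtype_injective _)] at this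
    exact this
  let e₀ : ↥HN ⧸ Cfsg.pPrimeCore 2 ↥HN ≃* G :=
    (QuotientGroup.quotientMulEquivOfEq hK).trans ((QuotientGroup.quotientBot).trans
      ((MulEquiv.subgroupCongr hNtop).trans Subgroup.topEquiv))
  obtain ⟨n, hn, hcard⟩ := h.exists_card
  by_cases h2 : n = 2
  · subst h2
    refine Or.inr (Or.inr (Or.inr ?_))
    obtain ⟨t, ht, h1⟩ := h.exists_invol
    have hCS : Nat.card HC = 4 := by rw [h.card_centralizer, hcard, hK, card_bot]; norm_num
    have hCt : Nat.card (centralizer ({t} : Set G)) = 4 := by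
      rw [← hCS]
      exact le_antisymm (card_le_of_le (h.centralizer_le_of_four hcard ht h1))
        (card_le_of_le (Subgroup.centralizer_le (Set.singleton_subset_iff.mpr ht)))
    have hG : Nat.card G = 12 := by
      have e := h.card_centralizer_mul ht h1
      rw [hCt, hcard, hNtop, card_top] at e
      omega
    obtain ⟨x, hx⟩ := exists_prime_orderOf_dvd_card' (G := G) 3 (hp := ⟨Nat.prime_three⟩)
      (by rw [hG]; norm_num)
    have hL : Nat.card (zpowers x) = 3 := by rw [Nat.card_zpowers, hx]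
    haveI : FaithfulSMul G (G ⧸ zpowers x) := by
      refine ⟨fun {a b} hab => ?_⟩
      have hmem : b⁻¹ * a ∈ (zpowers x).normalCore := fun g => by
        have e : (b⁻¹ * a) • (QuotientGroup.mk g⁻¹ : G ⧸ zpowers x) = QuotientGroup.mk g⁻¹ := by
          rw [← smul_smul, hab, inv_smul_smul]
        simpa using (SEmb.smul_mk_eq_iff (H := zpowers x) _ _).mp e
      have hbot : (zpowers x).normalCore = ⊥ := le_bot_iff.mp (h.core ▸ TIElem.le_oddCore
        inferInstance (Odd.of_dvd_nat (by rw [hL]; decide) (card_dvd_of_le (normalCore_le _))))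
      rw [hbot, mem_bot] at hmem
      exact (eq_of_inv_mul_eq_one hmem).symm
    refine PSL2Sub.alt_four_of_faithful (α := G ⧸ zpowers x) ?_ hG
    have e := card_mul_index (zpowers x)
    rw [hL, hG, Subgroup.index] at e
    omega
  rcases h.structure_normalizer (show 3 ≤ n by omega) hcard with ⟨-, ⟨⟨e⟩⟩ | ⟨⟨e⟩⟩⟩ | ⟨-, ⟨e⟩⟩
  · exact Or.inr (Or.inl ⟨e₀.symm.trans e⟩)
  · exact Or.inl ⟨e₀.symm.trans e⟩
  · exact Or.inr (Or.inr (Or.inl ⟨e₀.symm.trans e⟩))

end ElemCase

end CfsgLib.SameOrderConj
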