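import Cfsg.Agent.Lib.SameOrderConj.Twisted

/-!
# The conclusion for an elementary abelian Sylow 2-subgroup
-/

set_option autoImplicit false
set_option linter.unusedSectionVars false
set_option linter.style.haveILetI false

namespace CfsgLib.SameOrderConj

open Subgroup

universe u

/-- The groups occurring in the elementary abelian case. -/
def ElemConcl (G : Type u) [Group G] : Prop :=
  Nonempty (G ≃* Cfsg.affineGroup (GaloisField 2 3)) ∨
  Nonempty (G ≃* Cfsg.semiaffineGroup (GaloisField 2 3)) ∨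
  Nonempty (G ≃* Cfsg.semiaffineGroup (GaloisField 2 5)) ∨
  Nonempty (G ≃* Matrix.ProjectiveSpecialLinearGroup (Fin 2) (GaloisField 2 3)) ∨
  Nonempty (G ≃* MulAut (Matrix.ProjectiveSpecialLinearGroup (Fin 2) (GaloisField 2 5))) ∨
  Nonempty (G ≃* alternatingGroup (Fin 4)) ∨
  Nonempty (G ≃* alternatingGroup (Fin 5))

namespace ElemCase

variable {G : Type u} [Group G] [Finite G] {S : Sylow 2 G} (h : ElemCase S)
include h

local notation "HN" => normalizer ((S : Subgroup G) : Set G)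
local notation "HC" => centralizer ((S : Subgroup G) : Set G)

theorem hyp_of_le {n : ℕ} (hn : n = 2 ∨ n = 3) (hcard : Nat.card (S : Subgroup G) = 2 ^ n)
    (hC : ∀ t ∈ (S : Subgroup G), t ≠ 1 → centralizer ({t} : Set G) ≤ HC) : TIElem.Hyp S :=
  ⟨h.elem, hC, by rw [hcard]; rcases hn with rfl | rfl <;> norm_num, h.conj.noMixedPrime⟩

theorem centralizer_eq (hH : TIElem.Hyp S) (hn : ¬ (S : Subgroup G).Normal) :
    Nat.card HC = Nat.card (S : Subgroup G) := by
  rw [h.card_centralizer]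
  suffices e : Cfsg.pPrimeCore 2 ↥HN = ⊥ by rw [e, card_bot, mul_one]
  refine (eq_bot_iff_forall _).mpr fun w hw => ?_
  have hodd : Odd (orderOf (w : G)) := by
    rw [orderOf_coe]
    exact (Nat.coprime_two_right.mp (Solvable.pPrimeCore_card_coprime 2 _)).of_dvd_nat
      (Subgroup.orderOf_dvd_natCard _ hw)
  have := (TIElem.good hH hn).1 (w : G) (h.core_le_centralizer ⟨w, hw, rfl⟩) hodd
  rw [h.core, mem_bot] at this
  exact Subtype.ext this

theorem of_not_normal_four (hn : ¬ (S : Subgroup G).Normal)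
    (h4 : Nat.card (S : Subgroup G) = 4) : Nonempty (G ≃* alternatingGroup (Fin 5)) := by
  have hC : ∀ t ∈ (S : Subgroup G), t ≠ 1 → centralizer ({t} : Set G) ≤ HC :=
    fun t ht h1 => h.centralizer_le_of_four h4 ht h1
  have hH := h.hyp_of_le (n := 2) (Or.inl rfl) (h4.trans (by norm_num)) hC
  obtain ⟨-, F, iF, iFF, hF, φ, hφ, hker⟩ := TIElem.good hH hn
  let e := MulEquiv.ofBijective φ ⟨φ.ker_eq_bot_iff.mp (hker.trans h.core), hφ⟩
  obtain ⟨t, ht, h1⟩ := h.exists_invol
  refine nonempty_alt_five (hF.trans h4) e (fun u v hu hv => h.conj.isConj_invol hu hv) t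
    (h.orderOf_mem ht h1) fun u hu => ?_
  obtain ⟨g, rfl⟩ := isConj_iff.mp (h.conj.isConj_invol (h.orderOf_mem ht h1) hu)
  have hcard : Nat.card (centralizer ({t} : Set G)) = 4 := by
    rw [← h4, ← h.centralizer_eq hH hn]
    exact le_antisymm (card_le_of_le (hC t ht h1))
      (card_le_of_le (Subgroup.centralizer_le (Set.singleton_subset_iff.mpr ht)))
  refine ⟨(h.card_centralizer_invol ht h1 hu).trans hcard, fun c hc => ?_⟩
  have hct : g⁻¹ * c * g ∈ centralizer ({t} : Set G) := by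
    rw [mem_centralizer_singleton_iff]
    have e := mem_centralizer_singleton_iff.mp hc
    calc g⁻¹ * c * g * t = g⁻¹ * (c * (g * t * g⁻¹)) * g := by group
      _ = g⁻¹ * ((g * t * g⁻¹) * c) * g := by rw [e]
      _ = t * (g⁻¹ * c * g) := by group
  have hCS : HC = (S : Subgroup G) :=
    (eq_of_le_of_card_ge h.le_centralizer (h.centralizer_eq hH hn).le).symm
  have e2 := h.elem _ (hCS ▸ hC t ht h1 hct : g⁻¹ * c * g ∈ (S : Subgroup G))
  rw [show g⁻¹ * c * g * (g⁻¹ * c * g) = g⁻¹ * (c * c) * g⁻¹⁻¹ by group, conj_eq_one_iff] at e2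
  rw [pow_two]; exact e2

/-- The elementary abelian case. -/
theorem concl : ElemConcl G := by
  by_cases hn : (S : Subgroup G).Normal
  · rcases h.of_normal hn with e | e | e | e
    · exact Or.inl e
    · exact Or.inr (Or.inl e)
    · exact Or.inr (Or.inr (Or.inl e))
    · exact Or.inr (Or.inr (Or.inr (Or.inr (Or.inr (Or.inl e)))))
  obtain ⟨n, hcard, ⟨hn23, hC⟩ | ⟨r, hnr, hC⟩⟩ := h.cases
  · rcases hn23 with rfl | rfl
    · exact Or.inr (Or.inr (Or.inr (Or.inr (Or.inr (Or.inr
        (h.of_not_normal_four hn (hcard.trans (by norm_num))))))))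
    · obtain ⟨-, F, iF, iFF, hF, φ, hφ, hker⟩ := TIElem.good (h.hyp_of_le (Or.inr rfl) hcard hC) hn
      exact Or.inr (Or.inr (Or.inr (Or.inl (nonempty_psl_galois (n := 3) (hF.trans hcard) three_ne_zero
        (MulEquiv.ofBijective φ ⟨φ.ker_eq_bot_iff.mp (hker.trans h.core), hφ⟩)))))
  · exact Or.inr (Or.inr (Or.inr (Or.inr (Or.inl
      (TwistCase.nonempty_mulAut (n := n) (r := r) ⟨h, hnr, hcard, hC, hn⟩)))))

end ElemCase

end CfsgLib.SameOrderConj
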