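import Mathlib.FieldTheory.Finite.GaloisField
import Cfsg.Agent.Lib.Linear.Card
import Cfsg.Agent.Lib.InvChar.ElemFour

/-!
# Identifications with `PSL(2, 2^n)` and `A₅`
-/

set_option autoImplicit false
set_option linter.style.haveILetI false

namespace CfsgLib.SameOrderConj

open Matrix

theorem charP_two {F : Type*} [Field F] [Fintype F] {n : ℕ} (h : Fintype.card F = 2 ^ n)
    (hn : n ≠ 0) : CharP F 2 := by
  have he : Fintype.card F % 2 = 0 := by
    rw [h]; exact Nat.even_iff.mp ((even_two).pow_of_ne_zero hn)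
  exact CharP.congr (ringChar F) (FiniteField.even_card_iff_char_two.mpr he)

theorem center_SL_two_bot {F : Type*} [Field F] [Fintype F] {n : ℕ} (h : Fintype.card F = 2 ^ n)
    (hn : n ≠ 0) : Subgroup.center (SpecialLinearGroup (Fin 2) F) = ⊥ := by
  refine Subgroup.card_eq_one.mp ?_
  rw [Linear.card_center_SL, h, Fintype.card_fin, Nat.gcd_comm]
  refine Nat.coprime_two_left.mpr ?_
  exact Nat.Even.sub_odd (Nat.one_le_two_pow) ((even_two).pow_of_ne_zero hn) odd_one

theorem nonempty_psl_galois {G : Type*} [Group G] {F : Type} [Field F] [Fintype F] {n : ℕ}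
    (hF : Fintype.card F = 2 ^ n) (hn : n ≠ 0) (e : G ≃* SpecialLinearGroup (Fin 2) F) :
    Nonempty (G ≃* ProjectiveSpecialLinearGroup (Fin 2) (GaloisField 2 n)) := by
  haveI : Fact (Nat.Prime 2) := ⟨Nat.prime_two⟩
  haveI : Fintype (GaloisField 2 n) := Fintype.ofFinite _
  have hE : Fintype.card (GaloisField 2 n) = 2 ^ n := by
    rw [← Nat.card_eq_fintype_card, GaloisField.card 2 n hn]
  let f := FiniteField.ringEquivOfCardEq (K := F) (K' := GaloisField 2 n) (hF.trans hE.symm)
  let m : SpecialLinearGroup (Fin 2) F ≃* SpecialLinearGroup (Fin 2) (GaloisField 2 n) :=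
    MonoidHom.toMulEquiv (SpecialLinearGroup.map (f : F →+* GaloisField 2 n))
      (SpecialLinearGroup.map (f.symm : GaloisField 2 n →+* F))
      (by ext A i j; simp)
      (by ext A i j; simp)
  exact ⟨(e.trans m).trans (QuotientGroup.quotientBot.symm.trans
    (QuotientGroup.quotientMulEquivOfEq (center_SL_two_bot hE hn).symm))⟩

/-- A group of order sixty with self-centralising four-groups is `A₅`. -/
theorem nonempty_alt_five {G : Type*} [Group G] [Finite G] {F : Type} [Field F] [Fintype F]
    (hF : Fintype.card F = 4) (e : G ≃* SpecialLinearGroup (Fin 2) F)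
    (hconj : ∀ u v : G, orderOf u = 2 → orderOf v = 2 → IsConj u v) (x : G) (hx : orderOf x = 2)
    (hC : ∀ u : G, orderOf u = 2 → Nat.card (Subgroup.centralizer ({u} : Set G)) = 4 ∧
      ∀ c ∈ Subgroup.centralizer ({u} : Set G), c ^ 2 = 1) :
    Nonempty (G ≃* alternatingGroup (Fin 5)) := by
  refine InvChar.ElemFour.mulEquiv_alternating x hx (fun u hu => hconj x u hx hu) hC ?_
  rw [Nat.card_congr e.toEquiv, Linear.card_SL_two, hF]
  norm_num

end CfsgLib.SameOrderConj
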