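import Cfsg.Agent.Lib.SameOrderConj.Quaternion

/-!
# Groups in which subgroups of the same order are conjugate
-/

set_option autoImplicit false
set_option linter.unusedSectionVars false
set_option linter.style.haveILetI false

namespace CfsgLib.SameOrderConj

open Subgroup

universe u

theorem classification {G : Type u} [Group G] [Finite G] (hC : SameConj G)
    (hO : Cfsg.oddCore G = ⊥) :
    (IsCyclic G ∧ IsPGroup 2 G) ∨ ElemConcl G ∨
      Nonempty (G ≃* Matrix.SpecialLinearGroup (Fin 2) (ZMod 3)) ∨
      Nonempty (G ≃* Matrix.SpecialLinearGroup (Fin 2) (ZMod 5)) := by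
  classical
  haveI : Fact (Nat.Prime 2) := ⟨Nat.prime_two⟩
  obtain ⟨S⟩ : Nonempty (Sylow 2 G) := inferInstance
  have hcyc : IsCyclic (S : Subgroup G) → IsCyclic G ∧ IsPGroup 2 G := by
    intro hc
    have hStop : (S : Subgroup G) = ⊤ := by
      by_cases heven : 2 ∣ Nat.card G
      · have hmin : (Nat.card G).minFac = 2 := (Nat.minFac_eq_two_iff _).mpr heven
        have hD := IsCyclic.isComplement' hmin hc
        set D := (MonoidHom.transferSylow S (hc.normalizer_le_centralizer hmin)).ker
        have hodd : Odd (Nat.card D) := Nat.not_even_iff_odd.mp fun hev =>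
          MonoidHom.not_dvd_card_ker_transferSylow S (hc.normalizer_le_centralizer hmin)
            (even_iff_two_dvd.mp hev)
        have hD1 : D = ⊥ := le_bot_iff.mp (hO ▸ TIElem.le_oddCore inferInstance hodd)
        rw [hD1] at hD
        exact isComplement'_bot_left.mp hD
      · have hodd : Odd (Nat.card (⊤ : Subgroup G)) := by
          rw [card_top]; exact Nat.not_even_iff_odd.mp fun hev => heven (even_iff_two_dvd.mp hev)
        have htop : (⊤ : Subgroup G) ≤ ⊥ := hO ▸ TIElem.le_oddCore inferInstance hodd
        exact le_antisymm le_top (htop.trans bot_le)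
    have etop : (S : Subgroup G) ≃* G := (MulEquiv.subgroupCongr hStop).trans Subgroup.topEquiv
    exact ⟨etop.isCyclic.mp hc, (S.2 : IsPGroup 2 (S : Subgroup G)).of_equiv etop⟩
  rcases hC.sylow_two S with hc | helem | ⟨⟨e⟩⟩
  · exact Or.inl (hcyc hc)
  · by_cases h4 : 4 ≤ Nat.card (S : Subgroup G)
    · exact Or.inr (Or.inl (ElemCase.concl (S := S) ⟨hC, hO, helem, h4⟩))
    · refine Or.inl (hcyc ?_)
      obtain ⟨n, hn⟩ := (S.2 : IsPGroup 2 (S : Subgroup G)).exists_card_eq
      rcases n with _ | _ | n
      · exact @isCyclic_of_subsingleton _ _ (Nat.card_eq_one_iff_unique.mp (hn.trans (pow_zero 2))).1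
      · exact isCyclic_of_prime_card (hn.trans (pow_one 2))
      · exact absurd (show 4 ≤ 2 ^ (n + 1 + 1) by
          have := Nat.two_pow_pos n; rw [pow_succ, pow_succ]; omega) (hn ▸ h4)
  · exact Or.inr (Or.inr (quaternion_case hC hO e))

end CfsgLib.SameOrderConj
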