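import Cfsg.Agent.Lib.SameOrderConj.ElemMain
import Cfsg.Agent.Lib.Transfer.Quaternion
import Cfsg.Agent.Lib.Present.BinIcosahedral
import Cfsg.Agent.S0201
import Cfsg.Agent.Lib.PSL2Sol.General

/-!
# The quaternion case
-/

set_option autoImplicit false
set_option linter.unusedSectionVars false
set_option linter.style.haveILetI false

namespace CfsgLib.SameOrderConj

open Subgroup

universe u

theorem quat_sq : ∀ s : QuaternionGroup 2, (s * s = 1 ∨ s * s = QuaternionGroup.a 2) ∧
    (s * s = 1 → s = 1 ∨ s = QuaternionGroup.a 2) := by decide +kernel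

theorem quat_comm : ∀ a y : QuaternionGroup 2, a * a ≠ 1 → y * y ≠ 1 → a * y = y * a →
    y = a ∨ y = a⁻¹ := by decide +kernel

theorem quat_rel : ∀ a y : QuaternionGroup 2, a * y ≠ y * a →
    a ^ 4 = 1 ∧ y ^ 2 = a ^ 2 ∧ y * a * y⁻¹ = a⁻¹ ∧ a * (y * a) = y := by decide +kernel

theorem quat_third : ∀ a y w : QuaternionGroup 2, a * y ≠ y * a → a * w ≠ w * a → y * w ≠ w * y →
    w = a * y ∨ w = y * a := by decide +kernel

variable {G : Type u} [Group G] [Finite G] {S : Sylow 2 G}

theorem quaternion_case (hC : SameConj G) (hcore : Cfsg.oddCore G = ⊥)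
    (e : (S : Subgroup G) ≃* QuaternionGroup 2) :
    Nonempty (G ≃* Matrix.SpecialLinearGroup (Fin 2) (ZMod 3)) ∨
      Nonempty (G ≃* Matrix.SpecialLinearGroup (Fin 2) (ZMod 5)) := by
  classical
  haveI : Fact (Nat.Prime 2) := ⟨Nat.prime_two⟩
  have hS8 : Nat.card (S : Subgroup G) = 8 := by
    rw [Nat.card_congr e.toEquiv, Nat.card_eq_fintype_card, QuaternionGroup.card]
  set Z := center G
  have hZ : Nat.card Z = 2 := Cfsg.Agent.S0201.result S 0 e fun N hN hodd =>
    le_bot_iff.mp (hcore ▸ TIElem.le_oddCore hN hodd)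
  have hZp : IsPGroup 2 Z := IsPGroup.of_card (n := 1) (by rw [hZ, pow_one])
  have hZS : Z ≤ (S : Subgroup G) :=
    le_sup_left.trans (S.3 (hZp.to_sup_of_normal_left S.2) le_sup_right).le
  set π := QuotientGroup.mk' Z
  set T : Sylow 2 (G ⧸ Z) := S.mapSurjective (QuotientGroup.mk'_surjective Z)
  have hT4 : Nat.card (T : Subgroup (G ⧸ Z)) = 4 := by
    have h1 : ((S : Subgroup G).map π).index = (S : Subgroup G).index := by
      rw [index_map_eq _ (QuotientGroup.mk'_surjective Z) ((QuotientGroup.ker_mk' Z).le.trans hZS)]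
    have h2 := card_mul_index ((S : Subgroup G).map π)
    have h3 := card_mul_index (S : Subgroup G)
    have h4 := card_eq_card_quotient_mul_card_subgroup Z
    rw [h1] at h2
    rw [hS8] at h3
    rw [hZ] at h4
    have hpos : 0 < (S : Subgroup G).index := Nat.pos_of_ne_zero index_ne_zero_of_finite
    show Nat.card ((S : Subgroup G).map π) = 4
    nlinarith
  -- the involution of the centre
  obtain ⟨z, hzZ, hz1⟩ : ∃ z ∈ Z, z ≠ 1 := by
    by_contra hne
    push Not at hne
    rw [(eq_bot_iff_forall _).mpr hne, card_bot] at hZ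
    omega
  have hzz : z * z = 1 := by
    have := congrArg Subtype.val (pow_card_eq_one' (x := (⟨z, hzZ⟩ : Z)))
    rw [SubmonoidClass.coe_pow, hZ, pow_two] at this
    exact this
  have hez : e ⟨z, hZS hzZ⟩ = QuaternionGroup.a 2 := by
    refine ((quat_sq (e ⟨z, hZS hzZ⟩)).2 ?_).resolve_left fun h1 => hz1 ?_
    · rw [← map_mul, ← map_one e]; exact congrArg e (Subtype.ext hzz)
    · exact congrArg Subtype.val (e.injective (h1.trans (map_one e).symm))
  have hsq : ∀ s : (S : Subgroup G), (s : G) * s ∈ Z := by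
    intro s
    rcases (quat_sq (e s)).1 with h1 | h1
    · rw [← map_mul, ← map_one e] at h1
      rw [show (s : G) * s = 1 from congrArg Subtype.val (e.injective h1)]
      exact one_mem Z
    · rw [← map_mul, ← hez] at h1
      rw [show (s : G) * s = z from congrArg Subtype.val (e.injective h1)]
      exact hzZ
  have hQ : ElemCase T := by
    refine ⟨hC.map π (QuotientGroup.mk'_surjective Z), ?_, ?_, hT4.ge⟩
    · haveI : (Cfsg.oddCore (G ⧸ Z)).Normal := Solvable.pPrimeCore_normal 2 _
      set O := Cfsg.oddCore (G ⧸ Z)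
      set M := O.comap π
      haveI : M.Normal := inferInstance
      have hMcard : Nat.card M = Nat.card O * 2 := by
        have h1 := card_mul_index M
        rw [index_comap_of_surjective O (QuotientGroup.mk'_surjective Z), card_eq_card_quotient_mul_card_subgroup Z, hZ,
          ← card_mul_index O, mul_right_comm] at h1
        exact Nat.eq_of_mul_eq_mul_right (Nat.pos_of_ne_zero index_ne_zero_of_finite) h1
      have hoddO : Odd (Nat.card O) := TIElem.odd_card_oddCore
      obtain ⟨P⟩ : Nonempty (Sylow 2 M) := inferInstance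
      have hP2 : Nat.card (P : Subgroup M) = 2 := by
        rw [P.card_eq_multiplicity, hMcard, Nat.factorization_mul hoddO.pos.ne' two_ne_zero,
          Finsupp.add_apply, Nat.factorization_eq_zero_of_not_dvd
            (fun hd => Nat.not_even_iff_odd.mpr hoddO (even_iff_two_dvd.mpr hd)),
          Nat.Prime.factorization_self Nat.prime_two, zero_add, pow_one]
      have hmin : (Nat.card M).minFac = 2 := by
        rw [Nat.minFac_eq_two_iff, hMcard]; exact dvd_mul_left _ _
      have hPc : IsCyclic (P : Subgroup M) := isCyclic_of_prime_card hP2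
      have hD := IsCyclic.isComplement' hmin hPc
      set D := (MonoidHom.transferSylow P (hPc.normalizer_le_centralizer hmin)).ker
      have hDi : D.index = 2 := hD.symm.index_eq_card.trans hP2
      have hDcard : Nat.card D = Nat.card O := by
        have := card_mul_index D
        rw [hDi, hMcard] at this
        omega
      have hDn : (D.map M.subtype).Normal := by
        refine ⟨?_⟩
        rintro _ ⟨d, hd, rfl⟩ g
        refine ⟨⟨g * d * g⁻¹, Normal.conj_mem inferInstance _ d.2 g⟩, ?_, rfl⟩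
        set w : M := ⟨g * d * g⁻¹, _⟩
        have hw : Odd (orderOf w) := by
          rw [← orderOf_coe]
          show Odd (orderOf (g * (d : G) * g⁻¹))
          rw [Invol.orderOf_conj, orderOf_coe]
          exact (hDcard ▸ hoddO).of_dvd_nat (Subgroup.orderOf_dvd_natCard _ hd)
        obtain ⟨j, hj⟩ := hw
        have e1 : w = (w ^ 2) ^ (j + 1) := by
          rw [← pow_mul, show 2 * (j + 1) = orderOf w + 1 by omega, pow_succ, pow_orderOf_eq_one,
            one_mul]
        rw [e1]
        exact pow_mem (by have := D.pow_index_mem w; rwa [hDi] at this) _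
      have hle := TIElem.le_oddCore hDn
        (by rw [card_map_of_injective M.subtype_injective, hDcard]; exact hoddO)
      rw [hcore, le_bot_iff, map_eq_bot_iff_of_injective _ M.subtype_injective] at hle
      exact card_eq_one.mp (by rw [← hDcard, hle, card_bot])
    · rintro _ ⟨s, hs, rfl⟩
      rw [← map_mul, QuotientGroup.mk'_apply, QuotientGroup.eq_one_iff]
      exact hsq ⟨s, hs⟩
  have hG : Nat.card G = Nat.card (G ⧸ Z) * 2 := by
    rw [card_eq_card_quotient_mul_card_subgroup Z, hZ]
  by_cases hTn : (T : Subgroup (G ⧸ Z)).Normal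
  swap
  · obtain ⟨f⟩ := hQ.of_not_normal_four hTn hT4
    refine Or.inr (Present.nonsolvable_120_iso ?_ ?_ fun P => ⟨((P.equiv S)).trans e⟩)
    · rw [hG, Nat.card_congr f.toEquiv, nat_card_alternatingGroup]
      norm_num [Nat.factorial]
    · intro hsol
      haveI := hsol
      exact PSL2Sol.alt_five_not_solvable (Group.isSolvable_of_surjective
        (f := f.toMonoidHom.comp π) (f.surjective.comp (QuotientGroup.mk'_surjective Z)))
  left
  have hQ12 : Nat.card (G ⧸ Z) = 12 := by
    have hidx : Odd (T : Subgroup (G ⧸ Z)).index := by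
      rw [← Nat.not_even_iff_odd]
      exact fun hev => T.not_dvd_index (even_iff_two_dvd.mp hev)
    have hc := card_mul_index (T : Subgroup (G ⧸ Z))
    rw [hT4] at hc
    obtain ⟨j, hj⟩ := hidx
    rcases hQ.of_normal hTn with ⟨⟨f⟩⟩ | ⟨⟨f⟩⟩ | ⟨⟨f⟩⟩ | ⟨⟨f⟩⟩
    · rw [Nat.card_congr f.toEquiv, card_affine, Nat.card_units, GaloisField.card 2 3 three_ne_zero] at hc
      omega
    · rw [Nat.card_congr f.toEquiv, card_semiaffine, Nat.card_units, GaloisField.card 2 3 three_ne_zero,
        card_ringAut_galois 3 three_ne_zero] at hc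
      omega
    · rw [Nat.card_congr f.toEquiv, card_semiaffine, Nat.card_units, GaloisField.card 2 5 (by norm_num),
        card_ringAut_galois 5 (by norm_num)] at hc
      omega
    · rw [Nat.card_congr f.toEquiv, nat_card_alternatingGroup]
      norm_num [Nat.factorial]
  have hSn : (S : Subgroup G).Normal := by
    have e1 : ((S : Subgroup G).map π).comap π = (S : Subgroup G) :=
      comap_map_eq_self ((QuotientGroup.ker_mk' Z).le.trans hZS)
    rw [← e1]
    exact (show ((S : Subgroup G).map π).Normal from hTn).comap π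
  obtain ⟨g, hg⟩ := exists_prime_orderOf_dvd_card' (G := G) 3 (hp := ⟨Nat.prime_three⟩)
    (by rw [hG, hQ12]; norm_num)
  have hg3 : g ^ 3 = 1 := by rw [← hg, pow_orderOf_eq_one]
  set a₀ : (S : Subgroup G) := e.symm (QuaternionGroup.a 1)
  set a : G := (a₀ : G)
  let c : ↥(S : Subgroup G) → ↥(S : Subgroup G) := fun s => ⟨g * s * g⁻¹, hSn.conj_mem _ s.2 g⟩
  have ha4 : e a₀ * e a₀ ≠ 1 := by rw [MulEquiv.apply_symm_apply]; decide
  have haZ : a ∉ Z := by
    intro ha
    have := congrArg Subtype.val (pow_card_eq_one' (x := (⟨a, ha⟩ : Z)))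
    rw [SubmonoidClass.coe_pow, hZ, pow_two] at this
    refine ha4 ?_
    rw [← map_mul, ← map_one e]
    exact congrArg e (Subtype.ext this)
  have hgC : g * a * g⁻¹ ≠ a := by
    intro hfix
    have h1 : π a ≠ 1 := fun e => haZ ((QuotientGroup.eq_one_iff a).mp e)
    have hT : π a ∈ (T : Subgroup (G ⧸ Z)) := ⟨a, a₀.2, rfl⟩
    have hgc : π g ∈ centralizer ({π a} : Set (G ⧸ Z)) := by
      rw [mem_centralizer_singleton_iff, ← map_mul, ← map_mul]
      congr 1
      exact mul_inv_eq_iff_eq_mul.mp hfix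
    have hcard : Nat.card (centralizer ({π a} : Set (G ⧸ Z))) * 3 = 12 := by
      have := hQ.card_centralizer_mul hT h1
      rwa [hT4, normalizer_eq_top_iff.mpr hTn, card_top, hQ12] at this
    have hd : orderOf (π g) ∣ 4 := by
      have := orderOf_dvd_natCard (⟨π g, hgc⟩ : centralizer ({π a} : Set (G ⧸ Z)))
      rwa [orderOf_mk, show Nat.card (centralizer ({π a} : Set (G ⧸ Z))) = 4 by omega] at this
    have hd3 : orderOf (π g) ∣ 3 := hg ▸ orderOf_map_dvd π g
    have h1 : g ∈ Z := (QuotientGroup.eq_one_iff g).mp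
      (orderOf_eq_one_iff.mp (Nat.eq_one_of_dvd_coprimes (by norm_num) hd hd3))
    have := Subgroup.orderOf_dvd_natCard Z h1
    rw [hg, hZ] at this
    norm_num at this
  have hcc : ∀ s : (S : Subgroup G), c (c (c s)) = s := fun s => Subtype.ext (by
    show g * (g * (g * s * g⁻¹) * g⁻¹) * g⁻¹ = s
    have hggg : g * g * g = 1 := by rw [← hg3, pow_succ, pow_two]
    calc g * (g * (g * s * g⁻¹) * g⁻¹) * g⁻¹ = g * g * g * s * (g * g * g)⁻¹ := by group
      _ = s := by rw [hggg]; group)
  have hcinv : ∀ s : (S : Subgroup G), c s⁻¹ = (c s)⁻¹ := fun s => Subtype.ext (by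
    show g * (s : G)⁻¹ * g⁻¹ = (g * s * g⁻¹)⁻¹
    group)
  have hcmul : ∀ s s' : (S : Subgroup G), c (s * s') = c s * c s' := fun s s' => Subtype.ext (by
    show g * ((s : G) * s') * g⁻¹ = g * s * g⁻¹ * (g * s' * g⁻¹)
    group)
  set y₀ := c a₀
  set w₀ := c y₀
  have hca : c a₀ ≠ a₀ := fun e1 => hgC (congrArg Subtype.val e1)
  have hsqne : ∀ s : (S : Subgroup G), s * s ≠ 1 → c s * c s ≠ 1 := by
    intro s hs e1
    refine hs ?_
    have h1 : c (1 : (S : Subgroup G)) = 1 := Subtype.ext (by show g * 1 * g⁻¹ = 1; group)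
    have := congrArg c (congrArg c e1)
    rw [hcmul, hcmul, hcc, h1, h1] at this
    exact this
  have ha0 : a₀ * a₀ ≠ 1 := fun e1 => ha4 (by rw [← map_mul, e1, map_one])
  have hne : ∀ s : (S : Subgroup G), s * s ≠ 1 → c s ≠ s → e s * e (c s) ≠ e (c s) * e s := by
    intro s hs hfix hcomm
    rcases quat_comm (e s) (e (c s)) (fun h1 => hs (e.injective (by rw [map_mul, h1, map_one])))
      (fun h1 => hsqne s hs (e.injective (by rw [map_mul, h1, map_one]))) hcomm with h1 | h1
    · exact hfix (e.injective h1)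
    · rw [← map_inv] at h1
      have h2 : c s = s⁻¹ := e.injective h1
      have h3 := hcc s
      rw [h2, hcinv, h2, inv_inv, h2] at h3
      exact hs (by nth_rewrite 1 [← h3]; exact inv_mul_cancel s)
  have hay := hne a₀ ha0 hca
  have hyy : y₀ * y₀ ≠ 1 := hsqne a₀ ha0
  have hcy : c y₀ ≠ y₀ := fun e1 => hca (by
    have := congrArg c (congrArg c e1)
    rw [hcc, hcc] at this
    exact this)
  have hyw := hne y₀ hyy hcy
  have hwy : c w₀ = a₀ := hcc a₀
  have haw : e a₀ * e w₀ ≠ e w₀ * e a₀ := by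
    intro e1
    refine hne w₀ (hsqne y₀ hyy) (fun e2 => hcy ?_) (by rw [hwy]; exact e1.symm)
    have := congrArg c (congrArg c e2)
    rw [hcc, hcc] at this
    exact this
  obtain ⟨r1, r2, r3, r4⟩ := quat_rel (e a₀) (e y₀) hay
  have key : ∃ g' : G, ∃ y' : (S : Subgroup G), g' ^ 3 = 1 ∧ orderOf g' = 3 ∧
      e a₀ * e y' ≠ e y' * e a₀ ∧
      g' * a * g'⁻¹ = y' ∧ g' * (y' : G) * g'⁻¹ = a * y' := by
    rcases quat_third (e a₀) (e y₀) (e w₀) hay haw hyw with hw | hw
    · rw [← map_mul] at hw
      exact ⟨g, y₀, hg3, hg, hay, rfl, congrArg Subtype.val (e.injective hw)⟩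
    · rw [← map_mul] at hw
      have hw' := e.injective hw
      refine ⟨g⁻¹, w₀, by rw [inv_pow, hg3, inv_one], by rw [orderOf_inv, hg], haw, ?_, ?_⟩
      · show g⁻¹ * a * g⁻¹⁻¹ = g * (g * a * g⁻¹) * g⁻¹
        calc g⁻¹ * a * g⁻¹⁻¹ = g⁻¹ * (g * g * g * a * (g * g * g)⁻¹) * g := by
              rw [show g * g * g = 1 by rw [← hg3, pow_succ, pow_two]]; group
          _ = g * (g * a * g⁻¹) * g⁻¹ := by simp [mul_assoc]
      · show g⁻¹ * (g * (y₀ : G) * g⁻¹) * g⁻¹⁻¹ = a * (w₀ : G)
        have h5 : a₀ * (y₀ * a₀) = y₀ := e.injective (by rw [map_mul, map_mul]; exact r4)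
        rw [hw', ← Subgroup.coe_mul, h5]
        group
  obtain ⟨g', y', hg'3, hg', hay', hga, hgy⟩ := key
  obtain ⟨s1, s2, s3, -⟩ := quat_rel (e a₀) (e y') hay'
  have hgen : closure ({a, g'} : Set G) = ⊤ := by
    set H := closure ({a, g'} : Set G)
    have haH : a ∈ H := subset_closure (Or.inl rfl)
    have hgH : g' ∈ H := subset_closure (Or.inr rfl)
    have hyH : (y' : G) ∈ H := hga ▸ mul_mem (mul_mem hgH haH) (inv_mem hgH)
    set K := H.subgroupOf (S : Subgroup G)
    have hK8 : Nat.card K = 8 := by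
      have hd : Nat.card K ∣ 8 := hS8 ▸ card_subgroup_dvd_card K
      have haK : a₀ ∈ K := haH
      have hyK : y' ∈ K := hyH
      have hlt : 4 < Nat.card K := by
        by_contra hle
        push Not at hle
        have h4 : orderOf a₀ = 4 := by
          rw [← MulEquiv.orderOf_eq e, MulEquiv.apply_symm_apply, QuaternionGroup.orderOf_a_one]
        have hz := eq_of_le_of_card_ge (zpowers_le.mpr haK) (by rw [Nat.card_zpowers, h4]; exact hle)
        obtain ⟨i, hi⟩ := mem_zpowers_iff.mp (hz.symm ▸ hyK : y' ∈ zpowers a₀)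
        exact hay' (by rw [← hi, map_zpow]; exact ((Commute.refl (e a₀)).zpow_right i).eq)
      have hd' : Nat.card K ∣ 2 ^ 3 := hd
      obtain ⟨i, hi3, hi⟩ := (Nat.dvd_prime_pow Nat.prime_two).mp hd'
      interval_cases i <;> simp_all
    have h24 : 24 ∣ Nat.card H := by
      refine Nat.Coprime.mul_dvd_of_dvd_of_dvd (m := 8) (n := 3) (by norm_num) ?_ ?_
      · rw [← hK8, ← card_map_of_injective (S : Subgroup G).subtype_injective, subgroupOf_map_subtype]
        exact card_dvd_of_le inf_le_left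
      · exact hg' ▸ Subgroup.orderOf_dvd_natCard H hgH
    refine eq_top_of_le_card H ?_
    have := Nat.le_of_dvd Nat.card_pos h24
    rw [hG, hQ12]
    omega
  refine Transfer.nonempty_mulEquiv_sl_two_three (a := a) (y := y') (g := g') ?_ ?_ ?_
    hga hgy hg'3 hgen (by rw [hG, hQ12])
  · have e1 : a₀ ^ 4 = 1 := e.injective (by rw [map_pow, s1, map_one])
    exact congrArg Subtype.val e1
  · have e1 : y' ^ 2 = a₀ ^ 2 := e.injective (by rw [map_pow, map_pow, s2])
    exact congrArg Subtype.val e1
  · have e1 : y' * a₀ * y'⁻¹ = a₀⁻¹ := e.injective (by rw [map_mul, map_mul, map_inv, map_inv, s3])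
    exact congrArg Subtype.val e1

end CfsgLib.SameOrderConj
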