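import Cfsg.Agent.Lib.SameOrderConj.Elem
import Cfsg.Agent.Lib.SameOrderConj.Fields
import Cfsg.Agent.Lib.TIElem.Main
import Cfsg.Agent.Lib.AutPSL.Count
import Cfsg.Agent.Lib.CN.Local
import Mathlib.GroupTheory.Transfer

/-!
# The case in which a field automorphism acts on the Sylow 2-subgroup
-/

set_option autoImplicit false
set_option linter.unusedSectionVars false
set_option linter.style.haveILetI false

namespace CfsgLib.SameOrderConj

open Subgroup
open scoped Pointwise

universe u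

variable {G : Type u} [Group G] [Finite G]

theorem mem_conj_of_two_power {S : Sylow 2 G} {z : G} {a : ℕ} (hz : orderOf z = 2 ^ a) :
    ∃ g : G, g * z * g⁻¹ ∈ (S : Subgroup G) := by
  haveI : Fact (Nat.Prime 2) := ⟨Nat.prime_two⟩
  obtain ⟨Q, hQ⟩ := (IsPGroup.of_card (n := a) (by rw [Nat.card_zpowers, hz]) :
    IsPGroup 2 (zpowers z)).exists_le_sylow
  obtain ⟨g, rfl⟩ := MulAction.exists_smul_eq G S Q
  obtain ⟨s, hs, e⟩ := hQ (mem_zpowers z)
  refine ⟨g⁻¹, ?_⟩
  rw [← e]
  simp only [MulDistribMulAction.toMonoidEnd_apply, MulDistribMulAction.toMonoidHom_apply,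
    MulAut.smul_def, MulAut.conj_apply, inv_inv]
  rw [show g⁻¹ * (g * s * g⁻¹) * g = s by group]
  exact hs

namespace ElemCase

variable {S : Sylow 2 G} (h : ElemCase S)
include h

local notation "HN" => normalizer ((S : Subgroup G) : Set G)
local notation "HC" => centralizer ((S : Subgroup G) : Set G)

theorem sq_eq_one_of_two_power {z : G} {a : ℕ} (hz : orderOf z = 2 ^ a) : z * z = 1 := by
  obtain ⟨g, hg⟩ := mem_conj_of_two_power (S := S) hz
  have e := h.elem _ hg
  rw [show g * z * g⁻¹ * (g * z * g⁻¹) = g * (z * z) * g⁻¹ by group, conj_eq_one_iff] at e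
  exact e

theorem card_centralizer_invol {t v : G} (ht : t ∈ (S : Subgroup G)) (h1 : t ≠ 1)
    (hv : orderOf v = 2) :
    Nat.card (centralizer ({v} : Set G)) = Nat.card (centralizer ({t} : Set G)) := by
  obtain ⟨g, rfl⟩ := isConj_iff.mp (h.conj.isConj_invol (h.orderOf_mem ht h1) hv)
  refine (Nat.card_congr ((MulAut.conj g).toEquiv.subtypeEquiv fun x => ?_)).symm
  rw [mem_centralizer_singleton_iff, mem_centralizer_singleton_iff]
  show _ ↔ MulAut.conj g x * MulAut.conj g t = MulAut.conj g t * MulAut.conj g x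
  rw [← map_mul, ← map_mul, (MulAut.conj g).injective.eq_iff]

/-- The fixed points on `S` of an element of prime order normalising it. -/
theorem fixed_card {x : G} {r : ℕ} [Fact r.Prime] (hx : orderOf x = r) (hxN : x ∈ HN) :
    Nat.card (S : Subgroup G) ≡
      Nat.card ↥((S : Subgroup G) ⊓ centralizer ({x} : Set G)) [MOD r] := by
  have hN : ∀ g : zpowers x, (g : G) ∈ HN := fun g => zpowers_le.mpr hxN g.2
  letI act : MulAction (zpowers x) (S : Subgroup G) :=
    { smul := fun g s => ⟨(g : G) * s * (g : G)⁻¹, (mem_normalizer_iff.mp (hN g) _).mp s.2⟩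
      one_smul := fun s => Subtype.ext (show (1 : G) * s * (1 : G)⁻¹ = s by group)
      mul_smul := fun g g' s => Subtype.ext (show ((g : G) * g') * s * ((g : G) * g')⁻¹ =
        g * ((g' : G) * s * (g' : G)⁻¹) * (g : G)⁻¹ by group) }
  have hp : IsPGroup r (zpowers x) := IsPGroup.of_card (n := 1)
    (by rw [Nat.card_zpowers, hx, pow_one])
  have heq : Nat.card (MulAction.fixedPoints (zpowers x) (S : Subgroup G)) =
      Nat.card ↥((S : Subgroup G) ⊓ centralizer ({x} : Set G)) := by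
    refine Nat.card_congr
      { toFun := fun s => ⟨(s.1 : G), s.1.2, mem_centralizer_singleton_iff.mpr ?_⟩
        invFun := fun s => ⟨⟨(s : G), s.2.1⟩, fun g => Subtype.ext ?_⟩
        left_inv := fun _ => rfl
        right_inv := fun _ => rfl }
    · have e : x * (s.1 : G) * x⁻¹ = s.1 := congrArg Subtype.val (s.2 ⟨x, mem_zpowers x⟩)
      exact (mul_inv_eq_iff_eq_mul.mp e).symm
    · obtain ⟨i, hi⟩ := mem_zpowers_iff.mp g.2
      show (g : G) * s * (g : G)⁻¹ = s
      have hc : Commute x (s : G) := (mem_centralizer_singleton_iff.mp s.2.2).symm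
      rw [← hi, (hc.zpow_left i).eq, mul_inv_cancel_right]
  exact heq ▸ hp.card_modEq_card_fixedPoints (S : Subgroup G)

end ElemCase

/-- The twisted case: the stabiliser of an involution of `S` in `N(S)/C(S)` has prime order `r`. -/
structure TwistCase (S : Sylow 2 G) (n r : ℕ) : Prop extends ElemCase S where
  nr : (n = 3 ∧ r = 3) ∨ (n = 5 ∧ r = 5)
  card : Nat.card (S : Subgroup G) = 2 ^ n
  stab : ∀ t ∈ (S : Subgroup G), t ≠ 1 → Nat.card (centralizer ({t} : Set G)) =
    r * Nat.card (centralizer ((S : Subgroup G) : Set G))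
  notNormal : ¬ (S : Subgroup G).Normal

namespace TwistCase

variable {S : Sylow 2 G} {n r : ℕ} (h : TwistCase S n r)
include h

local notation "HN" => normalizer ((S : Subgroup G) : Set G)
local notation "HC" => centralizer ((S : Subgroup G) : Set G)

theorem prime : r.Prime := by rcases h.nr with ⟨-, rfl⟩ | ⟨-, rfl⟩ <;> norm_num

theorem ne_two : r ≠ 2 := by rcases h.nr with ⟨-, rfl⟩ | ⟨-, rfl⟩ <;> norm_num

theorem centralizer_le_centralizer {t : G} (ht : t ∈ (S : Subgroup G)) :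
    HC ≤ centralizer ({t} : Set G) := Subgroup.centralizer_le (Set.singleton_subset_iff.mpr ht)

theorem exists_order_r {t : G} (ht : t ∈ (S : Subgroup G)) (h1 : t ≠ 1) :
    ∃ y ∈ centralizer ({t} : Set G), orderOf y = r := by
  haveI : Fact r.Prime := ⟨h.prime⟩
  obtain ⟨y, hy⟩ := exists_prime_orderOf_dvd_card' (G := centralizer ({t} : Set G)) r
    (by rw [h.stab t ht h1]; exact dvd_mul_right _ _)
  exact ⟨y, y.2, by rw [orderOf_coe, hy]⟩

/-- No nontrivial `r`-element is inverted by an involution. -/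
theorem eq_one_of_inverted {k v : G} {j : ℕ} (hk : orderOf k = r ^ j) (hv : orderOf v = 2)
    (hinv : v * k * v⁻¹ = k⁻¹) : k = 1 := by
  by_contra hne
  obtain ⟨t, ht, h1⟩ := h.exists_invol
  obtain ⟨y, hyt, hy⟩ := h.exists_order_r ht h1
  rcases j with _ | j
  · exact hne (orderOf_eq_one_iff.mp (hk.trans (pow_zero r)))
  have hko : orderOf (k ^ r ^ j) = r := by
    rw [orderOf_pow' _ (pow_ne_zero _ h.prime.ne_zero), hk,
      Nat.gcd_eq_right (pow_dvd_pow r j.le_succ), Nat.pow_div j.le_succ h.prime.pos,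
      show j + 1 - j = 1 by omega, pow_one]
  exact h.conj.noMixedPrime r h.prime h.ne_two y t hy (h.orderOf_mem ht h1)
    (mem_centralizer_singleton_iff.mp hyt).symm (k ^ r ^ j) v hko hv
    (TIElem.inv_pow_of_inverts hinv _)

/-- An involution centralises every element of an `r`-subgroup it normalises. -/
theorem commute_of_normalizes {R : Subgroup G} (hR : IsPGroup r R) {v : G} (hv : orderOf v = 2)
    {g : G} (hg : g ∈ R) (hvg : v * g * v⁻¹ ∈ R) : Commute v g := by
  haveI : Fact r.Prime := ⟨h.prime⟩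
  obtain ⟨j, hj⟩ := IsPGroup.iff_orderOf.mp hR ⟨_, mul_mem hvg (inv_mem hg)⟩
  rw [orderOf_mk] at hj
  have hvi := Invol.inv_eq_self hv
  have e := h.eq_one_of_inverted hj hv (by
    calc v * (v * g * v⁻¹ * g⁻¹) * v⁻¹ = (v * v) * g * v⁻¹ * g⁻¹ * v⁻¹ := by group
      _ = (v * g * v⁻¹ * g⁻¹)⁻¹ := by
        rw [Invol.mul_self_eq_one hv, mul_inv_rev, mul_inv_rev, mul_inv_rev, inv_inv, inv_inv, hvi]
        group)
  exact mul_inv_eq_iff_eq_mul.mp (mul_inv_eq_one.mp e)

theorem normalizer_le_centralizer (P : Sylow r G) (hP : IsCyclic (P : Subgroup G)) :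
    normalizer ((P : Subgroup G) : Set G) ≤ centralizer ((P : Subgroup G) : Set G) := by
  classical
  haveI : Fact r.Prime := ⟨h.prime⟩
  set M := normalizer ((P : Subgroup G) : Set G)
  let ψ : M →* MulAut (P : Subgroup G) := (P : Subgroup G).normalizerMonoidHom
  have hψ : ∀ z : M, ψ z = 1 ↔ (z : G) ∈ centralizer ((P : Subgroup G) : Set G) := fun z => by
    rw [← MonoidHom.mem_ker, show ψ.ker = _ from (P : Subgroup G).normalizerMonoidHom_ker]; rfl
  intro z hz
  refine (hψ ⟨z, hz⟩).mp (orderOf_eq_one_iff.mp ?_)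
  set d := orderOf (ψ ⟨z, hz⟩)
  have h1 : ¬ r ∣ d := by
    intro hd
    have hd2 : d ∣ Nat.card ψ.range := by
      exact Subgroup.orderOf_dvd_natCard ψ.range ⟨⟨z, hz⟩, rfl⟩
    have hPk : (P : Subgroup G).subgroupOf M ≤ ψ.ker := fun y hy =>
      MonoidHom.mem_ker.mpr ((hψ y).mpr fun w hw => congrArg Subtype.val
        ((IsCyclic.isMulCommutative (α := (P : Subgroup G))).is_comm.comm ⟨w, hw⟩ ⟨y, hy⟩))
    rw [← index_ker] at hd2
    exact (P.subtype (le_normalizer : (P : Subgroup G) ≤ M)).not_dvd_index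
      ((hd.trans hd2).trans (index_dvd_of_le hPk))
  have h2 : d ∣ r - 1 := by
    have hd : d ∣ Nat.card (MulAut (P : Subgroup G)) := orderOf_dvd_natCard _
    obtain ⟨k, hk⟩ := (P.2 : IsPGroup r (P : Subgroup G)).exists_card_eq
    rw [IsCyclic.card_mulAut, hk] at hd
    rcases k with _ | k
    · rw [pow_zero, Nat.totient_one] at hd
      exact hd.trans (one_dvd _)
    · rw [Nat.totient_prime_pow_succ h.prime] at hd
      exact ((Nat.Coprime.pow_right k ((h.prime.coprime_iff_not_dvd.mpr h1).symm))).dvd_of_dvd_mul_left hd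
  obtain ⟨a, m, hm, hzm⟩ := Nat.exists_eq_two_pow_mul_odd (n := orderOf z) (orderOf_pos z).ne'
  have hv : (z ^ m) * (z ^ m) = 1 := h.sq_eq_one_of_two_power (a := a) (by
    rw [orderOf_pow' _ (by rintro rfl; simp at hm), hzm, Nat.gcd_mul_left_left,
      Nat.mul_div_cancel _ hm.pos])
  have hψm : ψ ⟨z, hz⟩ ^ m = 1 := by
    rw [← map_pow]
    refine (hψ _).mpr ?_
    rw [SubmonoidClass.coe_pow]
    show z ^ m ∈ _
    by_cases h1 : z ^ m = 1
    · rw [h1]; exact one_mem _
    intro g hg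
    have hv2 := Invol.orderOf_eq_two h1 hv
    exact (h.commute_of_normalizes P.2 hv2 hg
      ((mem_normalizer_iff.mp (pow_mem hz m) g).mp hg)).symm.eq
  have h4 : d ∣ 2 ^ 2 := h2.trans (by rcases h.nr with ⟨-, rfl⟩ | ⟨-, rfl⟩ <;> norm_num)
  exact Nat.eq_one_of_dvd_coprimes (Nat.Coprime.pow_left 2 (Nat.coprime_two_left.mpr hm)) h4
    (orderOf_dvd_of_pow_eq_one hψm)

theorem eq_bot_of_two_rank_sq {z : G} {j : ℕ} (hz : z ∈ HN) (hzj : orderOf z = 2 ^ j) :
    z ∈ (S : Subgroup G) := by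
  by_cases h1 : z = 1
  · rw [h1]; exact one_mem _
  haveI : Fact (Nat.Prime 2) := ⟨Nat.prime_two⟩
  have hp : IsPGroup 2 (zpowers z) := IsPGroup.of_card (n := j) (by rw [Nat.card_zpowers, hzj])
  have hsup : IsPGroup 2 ↥(zpowers z ⊔ (S : Subgroup G)) :=
    IsPGroup.to_sup_of_normal_right' hp S.2 (zpowers_le.mpr hz)
  exact (le_sup_left.trans (S.3 hsup le_sup_right).le) (mem_zpowers z)

/-- The data from a cyclic Sylow `r`-subgroup. -/
theorem exists_complement (P : Sylow r G) (hP : IsCyclic (P : Subgroup G)) :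
    ∃ (K : Subgroup G) (_ : K.Normal) (hSK : (S : Subgroup G) ≤ K),
      ¬ r ∣ Nat.card K ∧ K.index = Nat.card (P : Subgroup G) ∧ TIElem.Hyp (S.subtype hSK) ∧
      ¬ (S.subtype hSK : Subgroup K).Normal ∧
      (∀ z ∈ K, z ∈ HC → z ∈ (S : Subgroup G)) ∧ centralizer (K : Set G) = ⊥ ∧
      ∃ (F : Type) (_ : Field F) (_ : Fintype F), Fintype.card F = 2 ^ n ∧
        Nonempty (K ≃* Matrix.SpecialLinearGroup (Fin 2) F) := by
  classical
  haveI : Fact r.Prime := ⟨h.prime⟩
  haveI : Fact (Nat.Prime 2) := ⟨Nat.prime_two⟩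
  have hPN := h.normalizer_le_centralizer P hP
  have hc := MonoidHom.ker_transferSylow_isComplement' P hPN
  set τ := MonoidHom.transferSylow P hPN
  have hrK : ¬ r ∣ Nat.card τ.ker := MonoidHom.not_dvd_card_ker_transferSylow P hPN
  have hinv : ∀ u : G, orderOf u = 2 → u ∈ τ.ker := by
    intro u hu
    refine MonoidHom.mem_ker.mpr (orderOf_eq_one_iff.mp ?_)
    obtain ⟨k, hk⟩ := (P.2 : IsPGroup r (P : Subgroup G)).exists_card_eq
    exact Nat.eq_one_of_dvd_coprimes
      (Nat.Coprime.pow_right k ((Nat.coprime_primes Nat.prime_two h.prime).mpr h.ne_two.symm))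
      (hu ▸ orderOf_map_dvd τ u) (hk ▸ orderOf_dvd_natCard _)
  have hSK : (S : Subgroup G) ≤ τ.ker := fun s hs => by
    by_cases h1 : s = 1
    · rw [h1]; exact one_mem _
    · exact hinv s (h.orderOf_mem hs h1)
  have hnK := TIElem.Hyp.not_normal_of_normal (S := S) h.notNormal hSK
  have hcardS : Nat.card (S.subtype hSK : Subgroup τ.ker) = 2 ^ n := by
    rw [Sylow.coe_subtype, Nat.card_congr (subgroupOfEquivOfLe hSK).toEquiv, h.card]
  have hH : TIElem.Hyp (S.subtype hSK) := by
    refine ⟨fun s hs => Subtype.ext (h.elem s hs), ?_, ?_, h.conj.noMixedPrime.subgroup _⟩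
    · intro t ht h1 c hc' s hs
      have ht1 : (t : G) ≠ 1 := fun e => h1 (Subtype.ext e)
      have hct : (c : G) ∈ centralizer ({(t : G)} : Set G) :=
        mem_centralizer_singleton_iff.mpr (congrArg Subtype.val (mem_centralizer_singleton_iff.mp hc'))
      have hle := h.centralizer_le (S := S) ht ht1
      set Ct := centralizer ({(t : G)} : Set G)
      have hCC : HC ≤ Ct := h.centralizer_le_centralizer ht
      haveI : ((HC).subgroupOf Ct).Normal := ⟨fun w hw g => by
        have := (TIElem.normal_centralizer_subgroupOf (S : Subgroup G)).conj_mem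
          ⟨(w : G), hle w.2⟩ hw ⟨(g : G), hle g.2⟩
        exact this⟩
      have hidx : ((HC).subgroupOf Ct).index = r := by
        have e := card_mul_index ((HC).subgroupOf Ct)
        rw [Nat.card_congr (subgroupOfEquivOfLe hCC).toEquiv, show Nat.card Ct = r * Nat.card HC from h.stab _ ht ht1, mul_comm r] at e
        exact Nat.eq_of_mul_eq_mul_left Nat.card_pos e
      have hpow := ((HC).subgroupOf Ct).pow_index_mem ⟨c, hct⟩
      rw [hidx] at hpow
      have hpow' : (c : G) ^ r ∈ HC := hpow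
      have hcop : r.Coprime (orderOf (c : G)) := (h.prime.coprime_iff_not_dvd).mpr fun hd => by
        rw [orderOf_coe] at hd
        exact hrK (hd.trans (orderOf_dvd_natCard c))
      obtain ⟨i, hi⟩ := exists_pow_eq_self_of_coprime hcop
      have hcC : (c : G) ∈ HC := hi ▸ pow_mem hpow' i
      exact Subtype.ext (hcC s hs)
    · rw [hcardS]
      rcases h.nr with ⟨rfl, -⟩ | ⟨rfl, -⟩ <;> norm_num
  have hcore : Cfsg.oddCore τ.ker = ⊥ := by
    haveI : (Cfsg.oddCore τ.ker).Characteristic := Solvable.pPrimeCore_characteristic 2 τ.ker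
    have := TIElem.le_oddCore (N := (Cfsg.oddCore τ.ker).map τ.ker.subtype) inferInstance
      (by rw [card_map_of_injective τ.ker.subtype_injective]; exact TIElem.odd_card_oddCore)
    rw [h.core, le_bot_iff, map_eq_bot_iff_of_injective _ τ.ker.subtype_injective] at this
    exact this
  obtain ⟨hgood, F, iF, iFF, hF, φ, hφ, hker⟩ := TIElem.good hH hnK
  have hCS : ∀ z ∈ τ.ker, z ∈ HC → z ∈ (S : Subgroup G) := by
    intro z hzK hzC
    obtain ⟨a, m, hm, hzm⟩ := Nat.exists_eq_two_pow_mul_odd (n := orderOf z) (orderOf_pos z).ne'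
    have h2 : orderOf (z ^ 2 ^ a) = m := by
      rw [orderOf_pow' _ (Nat.two_pow_pos a).ne', hzm, Nat.gcd_mul_right_left,
        Nat.mul_div_cancel_left _ (Nat.two_pow_pos a)]
    have hmem := hgood ⟨z ^ 2 ^ a, pow_mem hzK _⟩
      (fun s hs => Subtype.ext (pow_mem hzC (2 ^ a) (s : G) hs)) (by rw [orderOf_mk, h2]; exact hm)
    rw [hcore, mem_bot] at hmem
    exact h.eq_bot_of_two_rank_sq (centralizer_le_normalizer _ hzC) (j := a) (by
      have : m = 1 := by rw [← h2, orderOf_eq_one_iff]; exact congrArg Subtype.val hmem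
      rw [hzm, this, mul_one])
  refine ⟨τ.ker, inferInstance, hSK, hrK, hc.symm.index_eq_card, hH, hnK, hCS, ?_, F, iF, iFF,
    hF.trans hcardS,
    ⟨MulEquiv.ofBijective φ ⟨φ.ker_eq_bot_iff.mp (hker.trans hcore), hφ⟩⟩⟩
  -- the centraliser of `K`
  set C := centralizer ((τ.ker : Subgroup G) : Set G)
  have hCodd : Odd (Nat.card C) := by
    rw [← Nat.not_even_iff_odd]
    intro hev
    obtain ⟨v, hvC, hv⟩ := Invol.exists_orderOf_two_of_even_card hev
    have hSC : ∀ s ∈ (S : Subgroup G), ∀ k ∈ τ.ker, k * s = s * k := by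
      intro s hs k hk
      by_cases h1 : s = 1
      · simp [h1]
      obtain ⟨g, hg⟩ := isConj_iff.mp (h.conj.isConj_invol hv (h.orderOf_mem hs h1))
      haveI : C.Normal := inferInstance
      exact (hg ▸ Subgroup.Normal.conj_mem (inferInstance : C.Normal) v hvC g : s ∈ C) k hk
    refine hnK ⟨fun s hs k => ?_⟩
    have e : k * s * k⁻¹ = s := Subtype.ext (by
      show (k : G) * s * (k : G)⁻¹ = s
      rw [hSC s hs k k.2, mul_inv_cancel_right])
    rw [e]; exact hs
  exact le_bot_iff.mp (h.core ▸ TIElem.le_oddCore (inferInstance : C.Normal) hCodd)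

theorem not_dvd_centralizer : ¬ r ∣ Nat.card HC := by
  classical
  intro hdvd
  haveI : Fact r.Prime := ⟨h.prime⟩
  haveI : Fact (Nat.Prime 2) := ⟨Nat.prime_two⟩
  obtain ⟨x', hx'⟩ := exists_prime_orderOf_dvd_card' (G := HC) r hdvd
  set x := (x' : G)
  have hx : orderOf x = r := by rw [orderOf_coe, hx']
  have hxC : x ∈ HC := x'.2
  obtain ⟨t, ht, h1⟩ := h.exists_invol
  set Ct := centralizer ({t} : Set G)
  -- elements of order `r` of `C(t)` centralise `S`
  have hclaim : ∀ y ∈ Ct, orderOf y = r → y ∈ HC := by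
    intro y hyt hy
    obtain ⟨g, hg⟩ := h.conj (zpowers x) (zpowers y) (by rw [Nat.card_zpowers, Nat.card_zpowers, hx, hy])
    set S' : Sylow 2 G := g • S
    obtain ⟨w, hw, hwy⟩ := (hg ▸ mem_zpowers y : y ∈ (zpowers x).map (MulAut.conj g).toMonoidHom)
    have hwC : w ∈ HC := (zpowers_le.mpr hxC) hw
    have hS'L : (S' : Subgroup G) ≤ centralizer ({y} : Set G) := by
      rintro _ ⟨s, hs, rfl⟩
      rw [mem_centralizer_singleton_iff, ← hwy]
      show MulAut.conj g s * MulAut.conj g w = MulAut.conj g w * MulAut.conj g s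
      rw [← map_mul, ← map_mul, hwC s hs]
    have htL : t ∈ centralizer ({y} : Set G) :=
      mem_centralizer_singleton_iff.mpr (mem_centralizer_singleton_iff.mp hyt).symm
    set L := centralizer ({y} : Set G)
    obtain ⟨Q, hQ⟩ := (IsPGroup.of_card (n := 1) (by
      rw [Nat.card_zpowers, orderOf_mk, h.orderOf_mem ht h1, pow_one]) :
      IsPGroup 2 (zpowers (⟨t, htL⟩ : L))).exists_le_sylow
    obtain ⟨l, rfl⟩ := MulAction.exists_smul_eq L (S'.subtype hS'L) Q
    obtain ⟨u, hu, hut⟩ := hQ (mem_zpowers (⟨t, htL⟩ : L))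
    obtain ⟨s, hs, hsu⟩ := (hu : (u : G) ∈ (S' : Subgroup G))
    have hsu' : g * s * g⁻¹ = (u : G) := hsu
    have hut' : (l : G) * u * (l : G)⁻¹ = t := congrArg Subtype.val hut
    have e : ((l : G) * g) * s * ((l : G) * g)⁻¹ = t := by
      rw [← hut', ← hsu']; group
    have hs1 : s ≠ 1 := by rintro rfl; simp at e; exact h1 e.symm
    have hlg := h.mem_normalizer_of_conj hs hs1 (e.symm ▸ ht)
    intro s' hs'
    have hs'' : ((l : G) * g)⁻¹ * s' * ((l : G) * g) ∈ (S : Subgroup G) := by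
      simpa using (mem_normalizer_iff.mp (inv_mem hlg) s').mp hs'
    have hyl : (l : G) * y = y * l := mem_centralizer_singleton_iff.mp l.2
    have hS'y := mem_centralizer_singleton_iff.mp
      (hS'L ⟨_, hs'', rfl⟩ : g * (((l : G) * g)⁻¹ * s' * ((l : G) * g)) * g⁻¹ ∈ L)
    calc s' * y = (l : G) * (g * (((l : G) * g)⁻¹ * s' * ((l : G) * g)) * g⁻¹) * ((l : G)⁻¹ * y) := by group
      _ = (l : G) * (g * (((l : G) * g)⁻¹ * s' * ((l : G) * g)) * g⁻¹) * (y * (l : G)⁻¹) := by
        congr 1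
        calc (l : G)⁻¹ * y = (l : G)⁻¹ * (y * l) * (l : G)⁻¹ := by group
          _ = (l : G)⁻¹ * (l * y) * (l : G)⁻¹ := by rw [hyl]
          _ = y * (l : G)⁻¹ := by group
      _ = (l : G) * ((g * (((l : G) * g)⁻¹ * s' * ((l : G) * g)) * g⁻¹) * y) * (l : G)⁻¹ := by group
      _ = (l : G) * (y * (g * (((l : G) * g)⁻¹ * s' * ((l : G) * g)) * g⁻¹)) * (l : G)⁻¹ := by rw [hS'y]
      _ = ((l : G) * y) * (l : G)⁻¹ * s' := by group
      _ = y * s' := by rw [hyl]; group
  -- an element of order `r²`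
  have hCC : HC ≤ Ct := h.centralizer_le_centralizer ht
  obtain ⟨z, hz⟩ : ∃ z : G, orderOf z = r ^ 2 := by
    obtain ⟨c, hct, hcC⟩ : ∃ c ∈ Ct, c ∉ HC := by
      by_contra hne
      push Not at hne
      have := card_le_of_le (show Ct ≤ HC from hne)
      rw [h.stab t ht h1] at this
      have h2 := Nat.mul_le_mul_right (Nat.card HC) h.prime.two_le
      have := Nat.card_pos (α := HC)
      omega
    obtain ⟨k, m, hm, hcm⟩ := Nat.exists_eq_pow_mul_and_not_dvd (orderOf_pos c).ne' r h.prime.ne_one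
    have hm0 : m ≠ 0 := by rintro rfl; exact hm (dvd_zero r)
    have hord : orderOf (c ^ m) = r ^ k := by
      rw [orderOf_pow' _ hm0, hcm, Nat.gcd_mul_left_left, Nat.mul_div_cancel _ (Nat.pos_of_ne_zero hm0)]
    haveI : ((HC).subgroupOf Ct).Normal := ⟨fun w hw g => by
      have := (TIElem.normal_centralizer_subgroupOf (S : Subgroup G)).conj_mem
        ⟨(w : G), h.centralizer_le ht h1 w.2⟩ hw ⟨(g : G), h.centralizer_le ht h1 g.2⟩
      exact this⟩
    have hidx : ((HC).subgroupOf Ct).index = r := by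
      have e := card_mul_index ((HC).subgroupOf Ct)
      rw [Nat.card_congr (subgroupOfEquivOfLe hCC).toEquiv, h.stab t ht h1, mul_comm r] at e
      exact Nat.eq_of_mul_eq_mul_left Nat.card_pos e
    have hpow := ((HC).subgroupOf Ct).pow_index_mem ⟨c, hct⟩
    rw [hidx] at hpow
    have hpow' : c ^ r ∈ HC := hpow
    have hcmC : c ^ m ∉ HC := by
      intro hcm'
      obtain ⟨a, b, hab⟩ : ∃ a b : ℤ, (r : ℤ) * a + (m : ℤ) * b = 1 := by
        have hco : Nat.Coprime r m := h.prime.coprime_iff_not_dvd.mpr hm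
        exact ⟨Nat.gcdA r m, Nat.gcdB r m, by rw [← Nat.gcd_eq_gcd_ab, hco.gcd_eq_one]; rfl⟩
      refine hcC ?_
      rw [← zpow_one c, ← hab, zpow_add, zpow_mul, zpow_mul, zpow_natCast, zpow_natCast]
      exact mul_mem (zpow_mem hpow' _) (zpow_mem hcm' _)
    rcases k with _ | _ | k
    · exact absurd (by rw [orderOf_eq_one_iff.mp (hord.trans (pow_zero r))]; exact one_mem _) hcmC
    · exact absurd (hclaim _ (pow_mem hct m) (hord.trans (pow_one r))) hcmC
    · refine ⟨(c ^ m) ^ r ^ k, ?_⟩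
      rw [orderOf_pow' _ (pow_ne_zero _ h.prime.ne_zero), hord,
        Nat.gcd_eq_right (pow_dvd_pow r (by omega)), Nat.pow_div (by omega) h.prime.pos,
        show k + 1 + 1 - k = 2 by omega]
  -- the Sylow `r`-subgroups are cyclic
  obtain ⟨P⟩ : Nonempty (Sylow r G) := inferInstance
  have hPc : IsCyclic (P : Subgroup G) := by
    refine (Cfsg.Agent.S0016.result r P.2 fun A B hA hB => ?_).resolve_right
      (fun e => h.ne_two e.1)
    haveI : Nontrivial (P : Subgroup G) := by
      obtain ⟨a, ha⟩ := exists_prime_orderOf_dvd_card' (G := A) r (by rw [hA])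
      exact ⟨(a : (P : Subgroup G)), 1, fun e => h.prime.ne_one (by
        rw [← ha, ← orderOf_coe, e, orderOf_one])⟩
    haveI := P.2.center_nontrivial
    obtain ⟨c, hc⟩ := exists_prime_orderOf_dvd_card' (G := center (P : Subgroup G)) r (by
      obtain ⟨k, hk⟩ := (P.2.to_subgroup (center (P : Subgroup G))).exists_card_eq
      rcases k with _ | k
      · exact absurd (hk.trans (pow_zero r)) (Finite.one_lt_card (α := center (P : Subgroup G))).ne'
      · rw [hk]; exact dvd_pow_self r k.succ_ne_zero)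
    set Z := zpowers (c : (P : Subgroup G))
    have hZ : Nat.card Z = r := by rw [Nat.card_zpowers, orderOf_coe, hc]
    haveI : Z.Normal := ⟨fun w hw g => by
      have hwc : w ∈ center (P : Subgroup G) := (zpowers_le.mpr c.2) hw
      rw [(mem_center_iff.mp hwc g), mul_inv_cancel_right]; exact hw⟩
    suffices key : ∀ A : Subgroup (P : Subgroup G), Nat.card A = r → A = Z by
      rw [key A hA, key B hB]
    intro A hA
    by_contra hne
    have hinf : A ⊓ Z = ⊥ := by
      refine card_eq_one.mp ?_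
      rcases (Nat.dvd_prime h.prime).mp (hA ▸ card_dvd_of_le (inf_le_left : A ⊓ Z ≤ A)) with e | e
      · exact e
      · exact absurd (eq_of_le_of_card_ge (inf_eq_left.mp (eq_of_le_of_card_ge inf_le_left
          (by rw [e, hA]))) (by rw [hA, hZ])) hne
    have hcard : Nat.card ↥(A ⊔ Z) = r ^ 2 := by
      have e := CfsgLib.CN.card_sup_mul_card_inf A Z
      rw [hinf, card_bot, mul_one, hA, hZ] at e
      rw [e, pow_two]
    have hcyc : IsCyclic ↥(A ⊔ Z) := ((A ⊔ Z).equivMapOfInjective _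
      (P : Subgroup G).subtype_injective).isCyclic.mpr ((h.conj.cyclic_iff (by
        rw [card_map_of_injective (P : Subgroup G).subtype_injective, hcard, Nat.card_zpowers, hz])).mpr
        (inferInstance : IsCyclic (zpowers z)))
    have heq := Frobenius.eq_of_card_eq_prime_of_isCyclic (C := ↥(A ⊔ Z)) h.prime
      (X := A.subgroupOf (A ⊔ Z)) (Y := Z.subgroupOf (A ⊔ Z))
      ((Nat.card_congr (subgroupOfEquivOfLe le_sup_left).toEquiv).trans hA)
      ((Nat.card_congr (subgroupOfEquivOfLe le_sup_right).toEquiv).trans hZ)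
    have := congrArg (Subgroup.map (A ⊔ Z).subtype) heq
    rw [subgroupOf_map_subtype, subgroupOf_map_subtype, inf_eq_left.mpr le_sup_left,
      inf_eq_left.mpr le_sup_right] at this
    exact hne this
  obtain ⟨K, hKn, hSK, hrK, -, hH, hnK, hCS, hCK, F, _, _, hF, ⟨e⟩⟩ := h.exists_complement P hPc
  haveI := hKn
  -- an element of order `q - 1` of `N ∩ K`
  set P₂ := S.subtype hSK
  have hP₂card : Nat.card (P₂ : Subgroup K) = 2 ^ n := by
    rw [Sylow.coe_subtype, Nat.card_congr (subgroupOfEquivOfLe hSK).toEquiv, h.card]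
  obtain ⟨b, hb⟩ := hH.exists_ne_base hnK
  induction b using QuotientGroup.induction_on with
  | _ g₀ =>
  obtain ⟨Y, -, hY, hYN, hYb, -, -, -⟩ := hH.exists_real hnK hb
  have hYg : g₀⁻¹ * Y * g₀ ∈ normalizer ((P₂ : Subgroup K) : Set K) :=
    (SEmb.smul_mk_eq_iff _ _).mp hYb
  have hNK : ∀ k : K, k ∈ normalizer ((P₂ : Subgroup K) : Set K) → (k : G) ∈ HN := by
    intro k hk
    obtain ⟨s, hs, hs1⟩ := h.exists_invol
    exact h.mem_normalizer_of_conj hs hs1 ((mem_normalizer_iff.mp hk ⟨s, hSK hs⟩).mp hs)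
  have hYfix : ∀ {s : G}, s ∈ (S : Subgroup G) → Commute s (Y : G) → s = 1 := by
    intro s hs hc
    by_contra h1
    exact hH.not_commute_invol hnK hY
      (t := ⟨s, hSK hs⟩) (by rw [orderOf_mk]; exact h.orderOf_mem hs h1) (Subtype.ext hc)
  have hxconj : ∀ k : K, x * (k : G) * x⁻¹ ∈ K := fun k => hKn.conj_mem _ k.2 x
  -- correct `x` by an element of `S`
  have hYN' : (Y : G) ∈ HN := hNK Y hYN
  have hcommS : ∀ c ∈ HC, c * (Y : G) * c⁻¹ * (Y : G)⁻¹ ∈ HC := by
    intro c hc
    rw [show c * (Y : G) * c⁻¹ * (Y : G)⁻¹ = c * ((Y : G) * c⁻¹ * (Y : G)⁻¹) by group]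
    exact mul_mem hc ((TIElem.normal_centralizer_subgroupOf (S : Subgroup G)).conj_mem
      ⟨c⁻¹, centralizer_le_normalizer _ (inv_mem hc)⟩ (inv_mem hc) ⟨(Y : G), hYN'⟩)
  let f : ↥(S : Subgroup G) → ↥(S : Subgroup G) := fun s => ⟨(s : G) * (Y : G) * (s : G)⁻¹ * (Y : G)⁻¹,
    hCS _ (mul_mem (mul_mem (mul_mem (hSK s.2) Y.2) (inv_mem (hSK s.2))) (inv_mem Y.2))
      (hcommS s (h.le_centralizer s.2))⟩
  have hfinj : Function.Injective f := by
    intro a b e
    have e' : (a : G) * (Y : G) * (a : G)⁻¹ = (b : G) * (Y : G) * (b : G)⁻¹ :=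
      mul_right_cancel (congrArg Subtype.val e)
    have hc : Commute ((b : G)⁻¹ * a) (Y : G) := by
      show (b : G)⁻¹ * a * (Y : G) = (Y : G) * ((b : G)⁻¹ * a)
      calc (b : G)⁻¹ * a * (Y : G) = (b : G)⁻¹ * ((a : G) * (Y : G) * (a : G)⁻¹) * a := by group
        _ = (Y : G) * ((b : G)⁻¹ * a) := by rw [e']; group
    exact Subtype.ext (eq_of_inv_mul_eq_one (hYfix (mul_mem (inv_mem b.2) a.2) hc)).symm
  obtain ⟨s', hs'⟩ := Finite.injective_iff_surjective.mp hfinj ⟨x * (Y : G) * x⁻¹ * (Y : G)⁻¹,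
    hCS _ (mul_mem (hxconj Y) (inv_mem Y.2)) (hcommS x hxC)⟩
  have hs'' : (s' : G) * (Y : G) * (s' : G)⁻¹ = x * (Y : G) * x⁻¹ :=
    mul_right_cancel (congrArg Subtype.val hs')
  have hc1 : Commute ((s' : G)⁻¹ * x) (Y : G) := by
    show (s' : G)⁻¹ * x * (Y : G) = (Y : G) * ((s' : G)⁻¹ * x)
    calc (s' : G)⁻¹ * x * (Y : G) = (s' : G)⁻¹ * (x * (Y : G) * x⁻¹) * x := by group
      _ = (Y : G) * ((s' : G)⁻¹ * x) := by rw [← hs'']; group
  have hsq : ((s' : G)⁻¹ * x) ^ 2 = x ^ 2 := by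
    have hcs : Commute ((s' : G)⁻¹) x := (show Commute (s' : G) x from hxC _ s'.2).inv_left
    rw [hcs.mul_pow, inv_pow, pow_two (s' : G), h.elem _ s'.2, inv_one, one_mul]
  have hxY : Commute x (Y : G) := by
    obtain ⟨j, hj⟩ := h.prime.odd_of_ne_two h.ne_two
    have e2 : (x ^ 2) ^ (j + 1) = x := by
      rw [← pow_mul, show 2 * (j + 1) = orderOf x + 1 by rw [hx]; omega, pow_succ, pow_orderOf_eq_one,
        one_mul]
    rw [← e2, ← hsq]
    exact (hc1.pow_left 2).pow_left _
  -- `x` normalises a second Sylow subgroup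
  have hg₀ : (g₀ : K) ∉ normalizer ((P₂ : Subgroup K) : Set K) := fun hg =>
    hb (QuotientGroup.eq.mpr (by simpa using hg))
  set g₁ : K := ⟨x * (g₀ : G) * x⁻¹, hxconj g₀⟩
  have hxN : ∀ k : K, k ∈ normalizer ((P₂ : Subgroup K) : Set K) →
      (⟨x * (k : G) * x⁻¹, hxconj k⟩ : K) ∈ normalizer ((P₂ : Subgroup K) : Set K) := by
    intro k hk
    have hk' := hNK k hk
    have hm : x * (k : G) * x⁻¹ ∈ HN :=
      mul_mem (mul_mem (centralizer_le_normalizer _ hxC) hk') (inv_mem (centralizer_le_normalizer _ hxC))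
    exact mem_normalizer_iff.mpr fun y => mem_normalizer_iff.mp hm (y : G)
  have hg₁N : g₁ ∉ normalizer ((P₂ : Subgroup K) : Set K) := by
    intro hg
    refine hg₀ ?_
    have hm := hNK g₁ hg
    have hg0 : (g₀ : G) ∈ HN := by
      have := mul_mem (mul_mem (inv_mem (centralizer_le_normalizer _ hxC)) hm) (centralizer_le_normalizer _ hxC)
      simpa [g₁, mul_assoc] using this
    exact mem_normalizer_iff.mpr fun y => mem_normalizer_iff.mp hg0 (y : G)
  have hYg₁ : Y • (QuotientGroup.mk g₁ : K ⧸ normalizer ((P₂ : Subgroup K) : Set K)) =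
      QuotientGroup.mk g₁ := by
    rw [SEmb.smul_mk_eq_iff]
    have e : g₁⁻¹ * Y * g₁ = ⟨x * ((g₀⁻¹ * Y * g₀ : K) : G) * x⁻¹, hxconj _⟩ := Subtype.ext (by
      show (x * (g₀ : G) * x⁻¹)⁻¹ * (Y : G) * (x * (g₀ : G) * x⁻¹) =
        x * ((g₀ : G)⁻¹ * (Y : G) * (g₀ : G)) * x⁻¹
      have hxy : x⁻¹ * (Y : G) * x = (Y : G) := by rw [mul_assoc, ← hxY.eq, inv_mul_cancel_left]
      calc (x * (g₀ : G) * x⁻¹)⁻¹ * (Y : G) * (x * (g₀ : G) * x⁻¹)
          = x * ((g₀ : G)⁻¹ * (x⁻¹ * (Y : G) * x) * (g₀ : G)) * x⁻¹ := by group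
        _ = _ := by rw [hxy])
    rw [e]
    exact hxN _ hYg
  have hsame := hH.fixed_unique hnK hY hYN (fun e => hg₁N (by simpa using QuotientGroup.eq.mp e))
    hYg₁ hb hYb
  set x₀ := (g₀ : G)⁻¹ * x * (g₀ : G)
  have hx₀N : x₀ ∈ HN := by
    have hq := hNK _ (QuotientGroup.eq.mp hsame.symm)
    have := mul_mem hq (centralizer_le_normalizer _ hxC)
    simpa [g₁, x₀, mul_assoc] using this
  have hx₀ : orderOf x₀ = r := by
    have := Invol.orderOf_conj (g₀ : G)⁻¹ x
    rw [inv_inv] at this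
    exact this.trans hx
  set Y₀ : K := g₀⁻¹ * Y * g₀
  have hY₀ : orderOf Y₀ = Nat.card (P₂ : Subgroup K) - 1 := by
    have := Invol.orderOf_conj g₀⁻¹ Y
    rw [inv_inv] at this
    exact this.trans hY
  have hx₀Y : Commute x₀ (Y₀ : G) := by
    show x₀ * _ = _ * x₀
    simp only [x₀, Y₀, coe_mul, InvMemClass.coe_inv]
    calc (g₀ : G)⁻¹ * x * g₀ * ((g₀ : G)⁻¹ * Y * g₀) = (g₀ : G)⁻¹ * (x * Y) * g₀ := by group
      _ = (g₀ : G)⁻¹ * (Y * x) * g₀ := by rw [hxY.eq]
      _ = _ := by group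
  -- `x₀` centralises `S`
  set A := (S : Subgroup G) ⊓ centralizer ({x₀} : Set G)
  have hAmod := h.toElemCase.fixed_card hx₀ hx₀N
  rw [h.card] at hAmod
  obtain ⟨j, hj, hjA⟩ := (Nat.dvd_prime_pow Nat.prime_two).mp
    (h.card ▸ card_dvd_of_le (inf_le_left : A ≤ (S : Subgroup G)))
  rw [hjA] at hAmod
  have hA3 : j ≠ 0 ∧ j ≠ 1 := by
    have hA1 : A ≠ ⊥ := by
      intro e
      simp only [A] at e hjA
      rw [e, card_bot] at hjA
      have : j = 0 := by
        rcases j with _ | j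
        · rfl
        · exact absurd hjA (by have := Nat.two_pow_pos j; rw [pow_succ]; omega)
      subst this
      rcases h.nr with ⟨rfl, rfl⟩ | ⟨rfl, rfl⟩ <;> exact absurd hAmod (by decide)
    obtain ⟨t', ht'A, ht'1⟩ := (ne_bot_iff_exists_ne_one.mp hA1) |>
      fun ⟨w, hw⟩ => (⟨(w : G), w.2, fun e => hw (Subtype.ext e)⟩ : ∃ t' ∈ A, t' ≠ 1)
    have hY₀N : (Y₀ : G) ∈ HN := hNK Y₀ hYg
    set t'' := (Y₀ : G) * t' * (Y₀ : G)⁻¹
    have ht''A : t'' ∈ A := by
      refine ⟨(mem_normalizer_iff.mp hY₀N t').mp ht'A.1, mem_centralizer_singleton_iff.mpr ?_⟩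
      have e1 := mem_centralizer_singleton_iff.mp ht'A.2
      have e2 : x₀ * (Y₀ : G)⁻¹ = (Y₀ : G)⁻¹ * x₀ := hx₀Y.inv_right.eq
      calc t'' * x₀ = (Y₀ : G) * (t' * ((Y₀ : G)⁻¹ * x₀)) := by simp only [t'']; group
        _ = (Y₀ : G) * ((t' * x₀) * (Y₀ : G)⁻¹) := by rw [← e2]; group
        _ = ((Y₀ : G) * x₀) * t' * (Y₀ : G)⁻¹ := by rw [e1]; group
        _ = x₀ * t'' := by rw [← hx₀Y.eq]; simp only [t'']; group
    have hne : t'' ≠ t' := fun e => hH.not_commute_invol hnK hY₀
      (t := ⟨t', hSK ht'A.1⟩) (by rw [orderOf_mk]; exact h.orderOf_mem ht'A.1 ht'1)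
      (Subtype.ext (mul_inv_eq_iff_eq_mul.mp e).symm)
    have hne1 : t'' ≠ 1 := fun e => ht'1 (conj_eq_one_iff.mp e)
    have h3 : 2 < Nat.card A := by
      haveI : Fintype A := Fintype.ofFinite _
      rw [Nat.card_eq_fintype_card]
      exact Fintype.two_lt_card_iff.mpr ⟨1, ⟨t', ht'A⟩, ⟨t'', ht''A⟩,
        fun e => ht'1 (congrArg Subtype.val e).symm, fun e => hne1 (congrArg Subtype.val e).symm,
        fun e => hne (congrArg Subtype.val e).symm⟩
    rw [hjA] at h3
    constructor <;> (rintro rfl; norm_num at h3)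
  have hjn : j = n := by
    rcases h.nr with ⟨rfl, rfl⟩ | ⟨rfl, rfl⟩
    · interval_cases j <;> first | rfl | exact absurd hAmod (by decide) | omega
    · interval_cases j <;> first | rfl | exact absurd hAmod (by decide) | omega
  have hAS : A = (S : Subgroup G) := eq_of_le_of_card_ge inf_le_left (by rw [hjA, hjn, h.card])
  have hx₀C : x₀ ∈ HC := fun s hs => mem_centralizer_singleton_iff.mp (hAS ▸ hs : s ∈ A).2
  -- `x` centralises `K`
  set H := (centralizer ({x} : Set G)).subgroupOf K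
  have hSH : (P₂ : Subgroup K) ≤ H := fun s hs => mem_centralizer_singleton_iff.mpr (hxC _ hs)
  have hgH : (P₂ : Subgroup K).map (MulAut.conj g₀).toMonoidHom ≤ H := by
    rintro _ ⟨s, hs, rfl⟩
    show (g₀ : G) * s * (g₀ : G)⁻¹ ∈ centralizer ({x} : Set G)
    rw [mem_centralizer_singleton_iff]
    have e := hx₀C (s : G) hs
    simp only [x₀] at e
    calc (g₀ : G) * s * (g₀ : G)⁻¹ * x = g₀ * (s * ((g₀ : G)⁻¹ * x * g₀)) * (g₀ : G)⁻¹ := by group
      _ = g₀ * ((g₀ : G)⁻¹ * x * g₀ * s) * (g₀ : G)⁻¹ := by rw [e]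
      _ = x * (g₀ * s * (g₀ : G)⁻¹) := by group
  have hnH : ¬ (P₂.subtype hSH : Subgroup H).Normal := by
    intro hnormal
    refine hg₀ (mem_normalizer_iff.mpr fun y => ?_)
    have hle : H ≤ normalizer ((P₂ : Subgroup K) : Set K) :=
      (normal_subgroupOf_iff_le_normalizer hSH).mp (Sylow.coe_subtype P₂ hSH ▸ hnormal :
        ((P₂ : Subgroup K).subgroupOf H).Normal)
    have hsup : IsPGroup 2 ↥((P₂ : Subgroup K).map (MulAut.conj g₀).toMonoidHom ⊔ (P₂ : Subgroup K)) :=
      IsPGroup.to_sup_of_normal_right' (P₂.2.map _) P₂.2 (hgH.trans hle)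
    have heq := eq_of_le_of_card_ge (le_sup_left.trans (P₂.3 hsup le_sup_right).le)
      (by rw [card_map_of_injective (MulEquiv.injective _)])
    conv_rhs => rw [← heq]
    rw [← mem_map_iff_mem (f := (MulAut.conj g₀).toMonoidHom) (MulEquiv.injective _)]
    rfl
  obtain ⟨-, F', _, _, hF', φ, hφ, -⟩ := TIElem.good (hH.subgroup hSH) hnH
  have hHtop : H = ⊤ := by
    refine eq_top_of_le_card H ?_
    have hcard1 := Nat.card_congr e.toEquiv
    rw [Linear.card_SL_two, hF] at hcard1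
    have hcard2 := Nat.card_le_card_of_surjective φ hφ
    rw [Linear.card_SL_two, hF', hH.card_subtype_sylow hSH, hP₂card] at hcard2
    omega
  have hxK : x ∈ centralizer (K : Set G) := fun k hk =>
    mem_centralizer_singleton_iff.mp (show (⟨k, hk⟩ : K) ∈ H from hHtop ▸ mem_top _)
  rw [hCK, mem_bot] at hxK
  rw [hxK, orderOf_one] at hx
  exact h.prime.ne_one hx.symm

theorem sylow_card (P : Sylow r G) : Nat.card (P : Subgroup G) = r := by
  classical
  haveI : Fact r.Prime := ⟨h.prime⟩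
  haveI : Fact (Nat.Prime 2) := ⟨Nat.prime_two⟩
  obtain ⟨t, ht, h1⟩ := h.exists_invol
  obtain ⟨y, hyt, hy⟩ := h.exists_order_r ht h1
  obtain ⟨k, hk⟩ := (P.2 : IsPGroup r (P : Subgroup G)).exists_card_eq
  have hrG : r ∣ Nat.card G := hy ▸ orderOf_dvd_natCard y
  have hk0 : k ≠ 0 := by
    rintro rfl
    rw [pow_zero] at hk
    exact P.ne_bot_of_dvd_card hrG (card_eq_one.mp hk)
  by_contra hne
  have hk2 : 2 ≤ k := by
    rcases k with _ | _ | k
    · exact absurd rfl hk0
    · exact absurd (hk.trans (pow_one r)) hne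
    · omega
  -- conjugate `P` into the centraliser of `y`
  haveI : Nontrivial (P : Subgroup G) := by
    rw [← Finite.one_lt_card_iff_nontrivial, hk]; exact Nat.one_lt_pow hk0 h.prime.one_lt
  haveI := P.2.center_nontrivial
  obtain ⟨c, hc⟩ := exists_prime_orderOf_dvd_card' (G := center (P : Subgroup G)) r (by
    obtain ⟨i, hi⟩ := (P.2.to_subgroup (center (P : Subgroup G))).exists_card_eq
    rcases i with _ | i
    · exact absurd (hi.trans (pow_zero r)) (Finite.one_lt_card (α := center (P : Subgroup G))).ne'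
    · rw [hi]; exact dvd_pow_self r i.succ_ne_zero)
  set z := ((c : (P : Subgroup G)) : G)
  have hz : orderOf z = r := by simp only [z, orderOf_coe, hc]
  obtain ⟨g, hg⟩ := h.conj (zpowers z) (zpowers y) (by rw [Nat.card_zpowers, Nat.card_zpowers, hz, hy])
  set L := centralizer ({y} : Set G)
  have hPL : (P : Subgroup G).map (MulAut.conj g).toMonoidHom ≤ L := by
    obtain ⟨w, hw, hwy⟩ := (hg ▸ mem_zpowers y : y ∈ (zpowers z).map (MulAut.conj g).toMonoidHom)
    obtain ⟨i, rfl⟩ := mem_zpowers_iff.mp hw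
    rintro _ ⟨p, hp, rfl⟩
    rw [mem_centralizer_singleton_iff, ← hwy, ← map_mul, ← map_mul]
    congr 1
    have hpz : Commute p z := congrArg Subtype.val (mem_center_iff.mp c.2 ⟨p, hp⟩)
    exact (hpz.zpow_right i).eq
  have hr2L : r ^ 2 ∣ Nat.card L := by
    refine (pow_dvd_pow r hk2).trans ?_
    rw [← hk, ← card_map_of_injective (K := (P : Subgroup G)) (f := (MulAut.conj g).toMonoidHom) (MulAut.conj g).injective]
    exact card_dvd_of_le hPL
  -- a Sylow 2-subgroup of `L` has order two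
  have htL : t ∈ L := mem_centralizer_singleton_iff.mpr (mem_centralizer_singleton_iff.mp hyt).symm
  have hyN : y ∈ HN := h.centralizer_le ht h1 hyt
  set A := (S : Subgroup G) ⊓ L
  have hA2 : Nat.card A = 2 := by
    have hmod := h.toElemCase.fixed_card hy hyN
    rw [h.card] at hmod
    obtain ⟨j, hj, hjA⟩ := (Nat.dvd_prime_pow Nat.prime_two).mp
      (h.card ▸ card_dvd_of_le (inf_le_left : A ≤ (S : Subgroup G)))
    rw [hjA] at hmod ⊢
    have hj0 : j ≠ 0 := by
      rintro rfl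
      rw [pow_zero] at hjA
      have : (⟨t, ht, htL⟩ : A) = 1 := (Nat.card_eq_one_iff_unique.mp hjA).1.elim _ _
      exact h1 (congrArg Subtype.val this)
    have hjn : j ≠ n := by
      rintro rfl
      have hAS : A = (S : Subgroup G) := eq_of_le_of_card_ge inf_le_left (by rw [hjA, h.card])
      refine h.not_dvd_centralizer (hy ▸ ?_)
      have hyC : y ∈ HC := fun s hs => mem_centralizer_singleton_iff.mp (hAS ▸ hs : s ∈ A).2
      have := orderOf_dvd_natCard (⟨y, hyC⟩ : HC)
      rwa [orderOf_mk] at this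
    rcases h.nr with ⟨rfl, rfl⟩ | ⟨rfl, rfl⟩
    · interval_cases j <;> first | rfl | exact absurd hmod (by decide) | omega
    · interval_cases j <;> first | rfl | exact absurd hmod (by decide) | omega
  obtain ⟨T, hT⟩ := (IsPGroup.of_card (n := 1) (by
    rw [Nat.card_zpowers, orderOf_mk, h.orderOf_mem ht h1, pow_one]) :
    IsPGroup 2 (zpowers (⟨t, htL⟩ : L))).exists_le_sylow
  have hT2 : Nat.card (T : Subgroup L) = 2 := by
    have hTA : (T : Subgroup L).map L.subtype ≤ A := by
      obtain ⟨Q, hQ⟩ := (T.2.map L.subtype).exists_le_sylow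
      obtain ⟨g', rfl⟩ := MulAction.exists_smul_eq G S Q
      rintro _ ⟨w, hw, rfl⟩
      refine ⟨?_, w.2⟩
      obtain ⟨s, hs, hsw⟩ := hQ ⟨w, hw, rfl⟩
      obtain ⟨s₀, hs₀, hst⟩ := hQ ⟨⟨t, htL⟩, hT (mem_zpowers _), rfl⟩
      have hwt : (w : G) ∈ centralizer ({t} : Set G) := by
        rw [mem_centralizer_singleton_iff]
        show L.subtype w * L.subtype ⟨t, htL⟩ = L.subtype ⟨t, htL⟩ * L.subtype w
        rw [← hsw, ← hst]
        simp only [MulDistribMulAction.toMonoidEnd_apply, MulDistribMulAction.toMonoidHom_apply,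
          MulAut.smul_def]
        rw [← map_mul, ← map_mul, h.comm hs hs₀]
      obtain ⟨i, hi⟩ := IsPGroup.iff_orderOf.mp T.2 ⟨w, hw⟩
      rw [orderOf_mk] at hi
      exact h.eq_bot_of_two_rank_sq (h.centralizer_le ht h1 hwt) (j := i)
        ((orderOf_injective L.subtype L.subtype_injective w).trans hi)
    have h2 : Nat.card (T : Subgroup L) ≤ 2 := by
      exact (card_map_of_injective (K := (T : Subgroup L)) L.subtype_injective).symm.trans_le
        ((card_le_of_le hTA).trans_eq hA2)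
    have h3 : 2 ≤ Nat.card (T : Subgroup L) := by
      have := card_le_of_le hT
      rwa [Nat.card_zpowers, orderOf_mk, h.orderOf_mem ht h1] at this
    omega
  have hmin : (Nat.card L).minFac = 2 := by
    rw [Nat.minFac_eq_two_iff]
    have := orderOf_dvd_natCard (⟨t, htL⟩ : L)
    rwa [orderOf_mk, h.orderOf_mem ht h1] at this
  have hTc : IsCyclic (T : Subgroup L) := isCyclic_of_prime_card hT2
  have hD := IsCyclic.isComplement' hmin hTc
  set D := (MonoidHom.transferSylow T (hTc.normalizer_le_centralizer hmin)).ker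
  have hDi : D.index = 2 := hD.symm.index_eq_card.trans hT2
  obtain ⟨R⟩ : Nonempty (Sylow r D) := inferInstance
  have hrR : r ^ 2 ∣ Nat.card (R : Subgroup D) := by
    rw [R.card_eq_multiplicity]
    refine pow_dvd_pow r ?_
    refine (Nat.Prime.pow_dvd_iff_le_factorization h.prime Nat.card_pos.ne').mp ?_
    rw [← card_mul_index D, hDi] at hr2L
    exact (Nat.Coprime.pow_left 2 ((Nat.coprime_primes h.prime Nat.prime_two).mpr h.ne_two)).dvd_of_dvd_mul_right hr2L
  have hfr := Sylow.normalizer_sup_eq_top R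
  set R' := (R : Subgroup D).map D.subtype
  have heven : Even (Nat.card (normalizer (R' : Set L))) := by
    rw [← Nat.not_odd_iff_even]
    intro hodd
    have hle : normalizer (R' : Set L) ≤ D := by
      intro z hz
      have hoz : Odd (orderOf z) := hodd.of_dvd_nat (by
        have := orderOf_dvd_natCard (⟨z, hz⟩ : normalizer (R' : Set L))
        rwa [orderOf_mk] at this)
      obtain ⟨j, hj⟩ := hoz
      have e : z = (z ^ 2) ^ (j + 1) := by
        rw [← pow_mul, show 2 * (j + 1) = orderOf z + 1 by omega, pow_succ, pow_orderOf_eq_one, one_mul]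
      rw [e]
      exact pow_mem (by have := D.pow_index_mem z; rwa [hDi] at this) _
    rw [sup_eq_right.mpr hle] at hfr
    rw [hfr, index_top] at hDi
    omega
  obtain ⟨v, hvR, hv⟩ := Invol.exists_orderOf_two_of_even_card heven
  have hv' : orderOf (v : G) = 2 := by rw [orderOf_coe, hv]
  have hRp : IsPGroup r (R'.map L.subtype) := (R.2.map _).map _
  have hRC : R'.map L.subtype ≤ centralizer ({(v : G)} : Set G) := by
    rintro _ ⟨w, hw, rfl⟩
    exact mem_centralizer_singleton_iff.mpr (h.commute_of_normalizes hRp hv' ⟨w, hw, rfl⟩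
      ⟨v * w * v⁻¹, (mem_normalizer_iff.mp hvR w).mp hw, by simp⟩).symm.eq
  have hdiv := card_dvd_of_le hRC
  rw [card_map_of_injective L.subtype_injective, card_map_of_injective D.subtype_injective,
    h.toElemCase.card_centralizer_invol ht h1 hv', h.stab t ht h1] at hdiv
  have hfin := hrR.trans hdiv
  rw [pow_two] at hfin
  exact h.not_dvd_centralizer (Nat.dvd_of_mul_dvd_mul_left h.prime.pos hfin)

/-- The conclusion in the twisted case. -/
theorem nonempty_mulAut :
    Nonempty (G ≃* MulAut (Matrix.ProjectiveSpecialLinearGroup (Fin 2) (GaloisField 2 5))) := by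
  classical
  haveI : Fact r.Prime := ⟨h.prime⟩
  haveI : Fact (Nat.Prime 2) := ⟨Nat.prime_two⟩
  obtain ⟨P⟩ : Nonempty (Sylow r G) := inferInstance
  have hP := h.sylow_card P
  have hPc : IsCyclic (P : Subgroup G) := isCyclic_of_prime_card hP
  obtain ⟨K, hKn, hSK, hrK, hidx, -, -, -, hCK, F, iF, iFF, hF, ⟨e⟩⟩ := h.exists_complement P hPc
  haveI := hKn
  have hKcard := Nat.card_congr e.toEquiv
  rw [Linear.card_SL_two, hF] at hKcard
  rcases h.nr with ⟨rfl, rfl⟩ | ⟨rfl, rfl⟩
  · exact absurd (by rw [hKcard]; norm_num) hrK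
  haveI : Fintype (GaloisField 2 5) := Fintype.ofFinite _
  have hE : Fintype.card (GaloisField 2 5) = 2 ^ 5 := by
    rw [← Nat.card_eq_fintype_card, GaloisField.card 2 5 (by norm_num)]
  obtain ⟨e'⟩ := nonempty_psl_galois (n := 5) hF (by norm_num) e
  have hinj : Function.Injective (MulAut.conjNormal : G →* MulAut K) := by
    rw [← MonoidHom.ker_eq_bot_iff, eq_bot_iff, ← hCK]
    intro g hg
    refine mem_centralizer_iff.mpr fun a ha => ?_
    have := congrArg Subtype.val (DFunLike.congr_fun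
      (show MulAut.conjNormal g = (1 : MulAut K) from hg) ⟨a, ha⟩)
    rw [MulAut.conjNormal_apply] at this
    exact (mul_inv_eq_iff_eq_mul.mp this).symm
  let f : G →* MulAut (Matrix.ProjectiveSpecialLinearGroup (Fin 2) (GaloisField 2 5)) :=
    (MulAut.congr e').toMonoidHom.comp MulAut.conjNormal
  have hf : Function.Injective f := (MulAut.congr e').injective.comp hinj
  have hc := CfsgLib.AutPSL.card_aut (n := 2) (F := GaloisField 2 5) 2 5 hE le_rfl
  rw [if_pos rfl, CfsgLib.Linear.card_PGL, CfsgLib.Linear.card_SL_two, hE] at hc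
  haveI : Finite (MulAut (Matrix.ProjectiveSpecialLinearGroup (Fin 2) (GaloisField 2 5))) :=
    Nat.finite_of_card_ne_zero (by rw [hc]; norm_num)
  have hG : Nat.card G = Nat.card K * 5 := by rw [← card_mul_index K, hidx, hP]
  exact ⟨MulEquiv.ofBijective f (hf.bijective_of_nat_card_le (by rw [hG, hc, hKcard]; norm_num))⟩

end TwistCase

end CfsgLib.SameOrderConj
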